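/-
Elements of order 65 in some small classical groups over the fields with 8 and 64 elements.
-/
import Mathlib
import Cfsg.Prelude.Def_Classical

set_option autoImplicit false
set_option maxRecDepth 20000

namespace Cfsg.Agent.Chev.E7Sixty

/-- A modulus for a binary field. -/
structure Mdl where
  deg : ℕ
  red : ℕ

namespace Mdl

/-- Multiplication by the generator. -/
def shift (m : Mdl) (a : ℕ) : ℕ :=
  if (2 * a).testBit m.deg then (2 * a ^^^ 2 ^ m.deg) ^^^ m.red else 2 * a

/-- The shifts of an element. -/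
def shifts (m : Mdl) : ℕ → ℕ → ℕ
  | 0, a => a
  | i + 1, a => m.shift (m.shifts i a)

/-- The product. -/
def mul (m : Mdl) (a b : ℕ) : ℕ :=
  (List.range m.deg).foldr (fun i r => if b.testBit i then r ^^^ m.shifts i a else r) 0

/-- Powers. -/
def pw (m : Mdl) (a : ℕ) : ℕ → ℕ
  | 0 => 1
  | k + 1 => m.mul (pw m a k) a

/-- Entries of a matrix given by rows. -/
def ent (A : List (List ℕ)) (i j : ℕ) : ℕ := (A.getD i []).getD j 0

/-- The product of matrices given by rows. -/
def mm (m : Mdl) (n : ℕ) (A B : List (List ℕ)) : List (List ℕ) :=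
  (List.range n).map fun i => (List.range n).map fun j =>
    (List.range n).foldr (fun k r => r ^^^ m.mul (ent A i k) (ent B k j)) 0

/-- Powers of a matrix. -/
def mpw (m : Mdl) (n : ℕ) (A : List (List ℕ)) : ℕ → List (List ℕ)
  | 0 => (List.range n).map fun i => (List.range n).map fun j => if i = j then 1 else 0
  | k + 1 => m.mm n (mpw m n A k) A

end Mdl

variable {K : Type*} [Field K] [CharP K 2]

/-- The value of a bit vector at a field element. -/
def val (α : K) : ℕ → ℕ → K
  | 0, _ => 0
  | d + 1, a => (if a.testBit 0 then 1 else 0) + α * val α d (a / 2)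

theorem val_xor (α : K) : ∀ d a b, val α d (a ^^^ b) = val α d a + val α d b
  | 0, _, _ => by simp [val]
  | d + 1, a, b => by
    simp only [val]
    have e2 : (a ^^^ b) / 2 = a / 2 ^^^ b / 2 := by
      apply Nat.eq_of_testBit_eq
      intro i
      simp [Nat.testBit_xor, Nat.testBit_div_two]
    rw [e2, val_xor α d, Nat.testBit_xor]
    cases a.testBit 0 <;> cases b.testBit 0 <;> simp <;> ring_nf <;> simp [CharTwo.two_eq_zero]

theorem val_zero (α : K) : ∀ d, val α d 0 = 0
  | 0 => rfl
  | d + 1 => by simp [val, val_zero α d]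

theorem val_succ (α : K) : ∀ (d a : ℕ), val α (d + 1) a = val α d a + (if a.testBit d then α ^ d else 0)
  | 0, a => by simp [val]
  | d + 1, a => by
    rw [val, val_succ α d, val, Nat.testBit_div_two]
    by_cases h : a.testBit (d + 1) <;> simp [h, pow_succ] <;> ring

theorem val_bits (α : K) : ∀ (d b : ℕ), val α d b = ((List.range d).map fun i => if b.testBit i then α ^ i else 0).sum
  | 0, b => by simp [val]
  | d + 1, b => by rw [val_succ, val_bits α d, List.range_succ, List.map_append, List.sum_append]; simp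

theorem val_two_mul (α : K) (d a : ℕ) : val α (d + 1) (2 * a) = α * val α d a := by
  simp [val]

theorem val_pow_two (α : K) : ∀ d, val α (d + 1) (2 ^ d) = α ^ d
  | 0 => by simp [val]
  | d + 1 => by rw [pow_succ', val_two_mul, val_pow_two α d, pow_succ']

variable {α : K} {m : Mdl}

/-- A root of the modulus. -/
def Mdl.Root (m : Mdl) (α : K) : Prop := α ^ m.deg = val α m.deg m.red

theorem val_shift (hα : m.Root α) (a : ℕ) : val α m.deg (m.shift a) = α * val α m.deg a := by
  have h0 := val_two_mul α m.deg a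
  rw [val_succ] at h0
  unfold Mdl.shift
  by_cases h : (2 * a).testBit m.deg
  · rw [if_pos h] at h0 ⊢
    have h1 := val_pow_two α m.deg
    rw [val_succ] at h1
    simp at h1
    rw [val_xor, val_xor, h1, add_zero, ← hα]
    exact h0
  · rw [if_neg h] at h0 ⊢
    simpa using h0

theorem val_shifts (hα : m.Root α) (a : ℕ) : ∀ i, val α m.deg (m.shifts i a) = α ^ i * val α m.deg a
  | 0 => by simp [Mdl.shifts]
  | i + 1 => by rw [Mdl.shifts, val_shift hα, val_shifts hα a i, pow_succ', mul_assoc]

theorem val_mul (hα : m.Root α) (a b : ℕ) : val α m.deg (m.mul a b) = val α m.deg a * val α m.deg b := by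
  rw [val_bits α m.deg b, Mdl.mul]
  induction List.range m.deg with
  | nil => simp [val_zero]
  | cons i l ih =>
    rw [List.foldr_cons, List.map_cons, List.sum_cons, mul_add, ← ih]
    by_cases h : b.testBit i
    · rw [if_pos h, if_pos h, val_xor, val_shifts hα]; ring
    · rw [if_neg h, if_neg h, mul_zero, zero_add]

/-- The matrix over the field. -/
def toM (α : K) (m : Mdl) (n : ℕ) (A : List (List ℕ)) : Matrix (Fin n) (Fin n) K :=
  Matrix.of fun i j => val α m.deg (Mdl.ent A i j)

theorem ent_map {n : ℕ} (f : ℕ → ℕ → ℕ) {i j : ℕ} (hi : i < n) (hj : j < n) :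
    Mdl.ent ((List.range n).map fun i => (List.range n).map fun j => f i j) i j = f i j := by
  simp [Mdl.ent, List.getD_eq_getElem?_getD, List.getElem?_map, List.getElem?_range, hi, hj]

theorem toM_mm (hα : m.Root α) (n : ℕ) (A B : List (List ℕ)) :
    toM α m n (m.mm n A B) = toM α m n A * toM α m n B := by
  ext i j
  rw [Matrix.mul_apply, toM, Matrix.of_apply, Mdl.mm,
    ent_map (fun i j => (List.range n).foldr (fun k r => r ^^^ m.mul (Mdl.ent A i k) (Mdl.ent B k j)) 0) i.isLt j.isLt]
  have key : ∀ l : List ℕ, val α m.deg (l.foldr (fun k r => r ^^^ m.mul (Mdl.ent A i k) (Mdl.ent B k j)) 0) =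
      (l.map fun k => val α m.deg (Mdl.ent A i k) * val α m.deg (Mdl.ent B k j)).sum := by
    intro l
    induction l with
    | nil => simp [val_zero]
    | cons k l ih => rw [List.foldr_cons, List.map_cons, List.sum_cons, val_xor, val_mul hα, ih, add_comm]
  rw [key]
  simp only [toM, Matrix.of_apply]
  rw [Fin.sum_univ_eq_sum_range (fun k => val α m.deg (Mdl.ent A i k) * val α m.deg (Mdl.ent B k j))]

  rfl

theorem val_one (α : K) {d : ℕ} (hd : 0 < d) : val α d 1 = 1 := by
  obtain ⟨d, rfl⟩ := Nat.exists_eq_succ_of_ne_zero hd.ne'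
  simp [val, val_zero]

theorem toM_mpw (hα : m.Root α) (hd : 0 < m.deg) (n : ℕ) (A : List (List ℕ)) :
    ∀ k, toM α m n (m.mpw n A k) = toM α m n A ^ k
  | 0 => by
    ext i j
    rw [pow_zero, toM, Matrix.of_apply, Mdl.mpw, ent_map (fun i j => if i = j then 1 else 0) i.isLt j.isLt,
      Matrix.one_apply]
    by_cases e : i = j
    · rw [if_pos (congrArg Fin.val e), if_pos e, val_one α hd]
    · rw [if_neg (fun h => e (Fin.ext h)), if_neg e, val_zero]
  | k + 1 => by rw [Mdl.mpw, toM_mm hα, toM_mpw hα hd n A k, pow_succ]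

/-- The values below `2 ^ deg` have inverses. -/
def ckInv (m : Mdl) : Bool :=
  (List.range (2 ^ m.deg)).all fun c => c == 0 || (List.range (2 ^ m.deg)).any fun b => m.mul c b == 1

theorem val_ne (hα : m.Root α) (hd : 0 < m.deg) (hck : ckInv m = true) {a b : ℕ} (ha : a < 2 ^ m.deg)
    (hb : b < 2 ^ m.deg) (hne : a ≠ b) : val α m.deg a ≠ val α m.deg b := by
  intro e
  have hc : a ^^^ b < 2 ^ m.deg := Nat.xor_lt_two_pow ha hb
  have h := List.all_eq_true.1 hck (a ^^^ b) (List.mem_range.2 hc)
  simp only [Bool.or_eq_true, beq_iff_eq, List.any_eq_true] at h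
  rcases h with h | ⟨c, -, h⟩
  · exact hne (by simpa using h)
  · have := val_mul hα (a ^^^ b) c
    rw [h, val_one α hd, val_xor, e, CharTwo.add_self_eq_zero, zero_mul] at this
    exact one_ne_zero this

/-- The test: `M` has order 65 and its powers do not commute with `U`. -/
def ckElt (m : Mdl) (n : ℕ) (M U : List (List ℕ)) : Bool :=
  m.mpw n M 65 == m.mpw n M 0 &&
    [5, 13].all fun k => (List.range n).any fun i => (List.range n).any fun j =>
      let a := Mdl.ent (m.mm n (m.mpw n M k) U) i j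
      let b := Mdl.ent (m.mm n U (m.mpw n M k)) i j
      a != b && decide (a < 2 ^ m.deg) && decide (b < 2 ^ m.deg)

theorem elt_spec (hα : m.Root α) (hd : 0 < m.deg) (hi : ckInv m = true) {n : ℕ} {M U : List (List ℕ)}
    (h : ckElt m n M U = true) :
    toM α m n M ^ 65 = 1 ∧ toM α m n M ^ 5 * toM α m n U ≠ toM α m n U * toM α m n M ^ 5 ∧
      toM α m n M ^ 13 * toM α m n U ≠ toM α m n U * toM α m n M ^ 13 := by
  simp only [ckElt, Bool.and_eq_true, beq_iff_eq, List.all_cons, List.all_nil, and_true, List.any_eq_true,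
    bne_iff_ne, ne_eq, decide_eq_true_eq, List.mem_range] at h
  obtain ⟨h65, ⟨i, hiN, j, hjN, ⟨h5, h5a⟩, h5b⟩, ⟨i', hi', j', hj', ⟨h13, h13a⟩, h13b⟩⟩ := h
  refine ⟨?_, fun e => ?_, fun e => ?_⟩
  · have := congrArg (toM α m n) h65
    rwa [toM_mpw hα hd, toM_mpw hα hd, pow_zero] at this
  · rw [← toM_mpw hα hd, ← toM_mm hα, ← toM_mm hα] at e
    exact val_ne hα hd hi h5a h5b h5 (congrFun (congrFun e ⟨i, hiN⟩) ⟨j, hjN⟩)
  · rw [← toM_mpw hα hd, ← toM_mm hα, ← toM_mm hα] at e
    exact val_ne hα hd hi h13a h13b h13 (congrFun (congrFun e ⟨i', hi'⟩) ⟨j', hj'⟩)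

/-- The order in a central quotient. -/
theorem orderOf_quot {G : Type*} [Group G] {g u : G} (h65 : g ^ 65 = 1) (h5 : g ^ 5 * u ≠ u * g ^ 5)
    (h13 : g ^ 13 * u ≠ u * g ^ 13) : orderOf (g : G ⧸ Subgroup.center G) = 65 := by
  have hd : orderOf (g : G ⧸ Subgroup.center G) ∣ 65 :=
    orderOf_dvd_of_pow_eq_one (by rw [← QuotientGroup.mk_pow, h65]; rfl)
  have hn : ∀ k, g ^ k * u ≠ u * g ^ k → ¬ orderOf (g : G ⧸ Subgroup.center G) ∣ k := fun k hk hd => by
    rw [orderOf_dvd_iff_pow_eq_one, ← QuotientGroup.mk_pow, QuotientGroup.eq_one_iff, Subgroup.mem_center_iff] at hd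
    exact hk (hd u).symm
  have hcases : ∀ d, d ∣ 65 → ¬ d ∣ 5 → ¬ d ∣ 13 → d = 65 := by
    intro d hd h5 h13
    have : d ∈ Nat.divisors 65 := Nat.mem_divisors.2 ⟨hd, by norm_num⟩
    have e : Nat.divisors 65 = {1, 5, 13, 65} := by decide +kernel
    rw [e] at this
    simp only [Finset.mem_insert, Finset.mem_singleton] at this
    rcases this with rfl | rfl | rfl | rfl <;> simp_all
  exact hcases _ hd (hn 5 h5) (hn 13 h13)

/-- The model of the field with 8 elements. -/
def m8 : Mdl := ⟨3, 3⟩
/-- The model of the field with 64 elements. -/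
def m64 : Mdl := ⟨6, 23⟩

theorem inv8 : ckInv m8 = true := by decide +kernel
theorem inv64 : ckInv m64 = true := by decide +kernel

def slM : List (List ℕ) := [[12, 21], [11, 55]]
def slU : List (List ℕ) := [[1, 15], [0, 1]]
def spM : List (List ℕ) := [[3, 4, 3, 5], [3, 6, 0, 4], [5, 6, 0, 4], [7, 4, 3, 6]]
def spU : List (List ℕ) := [[0, 2, 2, 1], [5, 0, 1, 5], [5, 1, 0, 5], [1, 2, 2, 0]]
def suM : List (List ℕ) := [[38, 9, 0, 53], [45, 38, 18, 38], [60, 26, 0, 16], [35, 22, 45, 22]]
def suU : List (List ℕ) := [[22, 55, 12, 25], [41, 23, 23, 19], [26, 23, 9, 35], [6, 5, 52, 8]]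

theorem ck_sl : ckElt m64 2 slM slU = true := by decide +kernel
theorem ck_sp : ckElt m8 4 spM spU = true := by decide +kernel
theorem ck_su : ckElt m64 4 suM suU = true := by decide +kernel

end Cfsg.Agent.Chev.E7Sixty
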