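/-
The small groups of the statement have elements of order 65.
-/
import Cfsg.Agent.Lib.Chev.E7Sixty.Witness
import Cfsg.Prelude.Def_LieClassical

set_option autoImplicit false
set_option maxRecDepth 20000

namespace Cfsg.Agent.Chev.E7Sixty

open Matrix

variable {K : Type*} [Field K] [Fintype K]

theorem charTwo_of_card {n : ℕ} (hK : Fintype.card K = 2 ^ n) : CharP K 2 := by
  obtain ⟨k, hp, hc⟩ := FiniteField.card K (ringChar K)
  rw [hK] at hc
  have h2 : ringChar K = 2 := by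
    have hd : ringChar K ∣ 2 ^ n := hc ▸ dvd_pow_self _ k.pos.ne'
    exact (Nat.prime_dvd_prime_iff_eq hp Nat.prime_two).1 (hp.dvd_of_dvd_pow hd)
  exact h2 ▸ ringChar.charP K

theorem exists_pow_ne_one {d : ℕ} (hd : d ∣ Fintype.card K - 1) (hp : d.Prime) : ∃ x : K, x ^ d = 1 ∧ x ≠ 1 := by
  classical
  haveI : Fact d.Prime := ⟨hp⟩
  obtain ⟨x, hx⟩ := exists_prime_orderOf_dvd_card' (G := Kˣ) d (by
    rw [Nat.card_eq_fintype_card, Fintype.card_units]; exact hd)
  refine ⟨x, ?_, fun e => ?_⟩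
  · rw [← Units.val_pow_eq_pow_val, ← hx, pow_orderOf_eq_one, Units.val_one]
  · rw [show x = (1 : Kˣ) from Units.ext e, orderOf_one] at hx
    exact hp.ne_one hx.symm

theorem exists_cubic [CharP K 2] (h7 : 7 ∣ Fintype.card K - 1) : ∃ b : K, b ^ 3 + b + 1 = 0 := by
  obtain ⟨x, hx, hx1⟩ := exists_pow_ne_one h7 (by norm_num)
  have e : (x - 1) * ((x ^ 3 + x + 1) * (x ^ 3 + x ^ 2 + 1)) = x ^ 7 - 1 := by
    linear_combination ((x - 1) * x ^ 3) * (CharTwo.two_eq_zero (R := K))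
  rw [hx, sub_self] at e
  rcases mul_eq_zero.1 ((mul_eq_zero.1 e).resolve_left (sub_ne_zero.2 hx1)) with h | h
  · exact ⟨x, h⟩
  · have hx0 : x ≠ 0 := fun h0 => by simp [h0] at hx
    refine ⟨x⁻¹, ?_⟩
    field_simp
    linear_combination h

theorem root8 [CharP K 2] (hK : Fintype.card K = 8) : ∃ a : K, m8.Root a := by
  obtain ⟨b, hb⟩ := exists_cubic (K := K) (by rw [hK])
  refine ⟨b, ?_⟩
  simp only [Mdl.Root, m8, val, show (3 : ℕ) / 2 = 1 from rfl, show (1 : ℕ) / 2 = 0 from rfl,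
    show Nat.testBit 3 0 = true from rfl, show Nat.testBit 1 0 = true from rfl, show Nat.testBit 0 0 = false from rfl]
  simp
  linear_combination hb - (b + 1) * (CharTwo.two_eq_zero (R := K))

theorem root64 [CharP K 2] (hK : Fintype.card K = 64) : ∃ a : K, m64.Root a := by
  obtain ⟨b, hb⟩ := exists_cubic (K := K) (by rw [hK]; norm_num)
  obtain ⟨w, hw, hw1⟩ := exists_pow_ne_one (K := K) (d := 3) (by rw [hK]; norm_num) (by norm_num)
  have hq : w ^ 2 + w + 1 = 0 := by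
    have e : (w - 1) * (w ^ 2 + w + 1) = 0 := by linear_combination hw
    exact (mul_eq_zero.1 e).resolve_left (sub_ne_zero.2 hw1)
  refine ⟨b * w, ?_⟩
  simp only [Mdl.Root, m64, val, show (23 : ℕ) / 2 = 11 from rfl, show (11 : ℕ) / 2 = 5 from rfl,
    show (5 : ℕ) / 2 = 2 from rfl, show (2 : ℕ) / 2 = 1 from rfl, show (1 : ℕ) / 2 = 0 from rfl,
    show Nat.testBit 23 0 = true from rfl, show Nat.testBit 11 0 = true from rfl,
    show Nat.testBit 5 0 = true from rfl, show Nat.testBit 2 0 = false from rfl,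
    show Nat.testBit 1 0 = true from rfl, show Nat.testBit 0 0 = false from rfl]
  simp
  have h2 := CharTwo.two_eq_zero (R := K)
  have e6 : (b * w) ^ 6 = b ^ 2 + 1 := by
    have : b ^ 6 = b ^ 2 + 1 := by linear_combination (b ^ 3 - b - 1) * hb + b * h2
    calc (b * w) ^ 6 = b ^ 6 * (w ^ 3) ^ 2 := by ring
      _ = b ^ 2 + 1 := by rw [hw, this]; ring
  have e4 : (b * w) ^ 4 = (b ^ 2 + b) * w := by
    have : b ^ 4 = b ^ 2 + b := by linear_combination b * hb - (b ^ 2 + b) * h2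
    calc (b * w) ^ 4 = b ^ 4 * (w ^ 3 * w) := by ring
      _ = (b ^ 2 + b) * w := by rw [hw, this]; ring
  linear_combination e6 - e4 - b ^ 2 * hq + (b ^ 2 - b * w) * h2

variable [CharP K 2] {α : K}

theorem det_one {n : ℕ} {A : Matrix (Fin n) (Fin n) K} (h65 : A ^ 65 = 1) {k : ℕ} (hk : Nat.Coprime 65 k)
    (h : A.det ^ k = 1) : A.det = 1 := by
  have h1 : A.det ^ 65 = 1 := by rw [← Matrix.det_pow, h65, Matrix.det_one]
  have := pow_gcd_eq_one.2 ⟨h1, h⟩
  rwa [hk.gcd_eq_one, pow_one] at this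

theorem det_ne_zero {n : ℕ} {A : Matrix (Fin n) (Fin n) K} (h65 : A ^ 65 = 1) : A.det ≠ 0 := fun e => by
  have := congrArg Matrix.det h65
  rw [Matrix.det_pow, e, zero_pow (by norm_num), Matrix.det_one] at this
  exact zero_ne_one this

theorem quot_of_hom {G R : Type*} [Group G] [Monoid R] (φ : G →* R) (hφ : Function.Injective φ) {g u : G}
    (h65 : φ g ^ 65 = 1) (h5 : φ g ^ 5 * φ u ≠ φ u * φ g ^ 5) (h13 : φ g ^ 13 * φ u ≠ φ u * φ g ^ 13) :
    orderOf (g : G ⧸ Subgroup.center G) = 65 :=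
  orderOf_quot (hφ (by rw [map_pow, h65, map_one]))
    (fun e => h5 (by simpa only [map_mul, map_pow] using congrArg φ e))
    (fun e => h13 (by simpa only [map_mul, map_pow] using congrArg φ e))

theorem psl_elt {n : ℕ} (hK : Nat.Coprime 65 (Fintype.card K - 1)) (M U : Matrix (Fin n) (Fin n) K) (hU : U.det = 1)
    (h65 : M ^ 65 = 1) (h5 : M ^ 5 * U ≠ U * M ^ 5) (h13 : M ^ 13 * U ≠ U * M ^ 13) :
    ∃ g : Matrix.ProjectiveSpecialLinearGroup (Fin n) K, orderOf g = 65 := by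
  have hd : M.det = 1 := det_one h65 hK (FiniteField.pow_card_sub_one_eq_one _ (det_ne_zero h65))
  exact ⟨_, quot_of_hom (G := Matrix.SpecialLinearGroup (Fin n) K)
    { toFun := fun A => (A : Matrix (Fin n) (Fin n) K), map_one' := rfl, map_mul' := fun _ _ => rfl }
    (fun _ _ e => Subtype.ext e) (g := ⟨M, hd⟩) (u := ⟨U, hU⟩) h65 h5 h13⟩

theorem det_inv {m : Mdl} (ha : m.Root α) (hd : 0 < m.deg) {n : ℕ} {A : List (List ℕ)}
    (h : m.mpw n A 2 = m.mpw n A 0) : (toM α m n A).det = 1 := by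
  have h' := congrArg (fun B => (toM α m n B).det) h
  simp only [toM_mpw ha hd, pow_zero, Matrix.det_pow, Matrix.det_one] at h'
  rcases sq_eq_one_iff.1 h' with e | e
  · exact e
  · rw [e, CharTwo.neg_eq]

theorem psl2 (hK : Fintype.card K = 64) : ∃ g : Matrix.ProjectiveSpecialLinearGroup (Fin 2) K, orderOf g = 65 := by
  obtain ⟨a, ha⟩ := root64 (K := K) hK
  obtain ⟨h1, h2, h3⟩ := elt_spec ha (by decide) inv64 ck_sl
  exact psl_elt (by rw [hK]; norm_num) _ _ (det_inv ha (by decide) (by decide +kernel)) h1 h2 h3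

/-- The symplectic test. -/
def ckSp : List (List ℕ) → Bool := fun M =>
  m8.mm 4 (m8.mm 4 M [[0, 0, 1, 0], [0, 0, 0, 1], [1, 0, 0, 0], [0, 1, 0, 0]])
      ((List.range 4).map fun i => (List.range 4).map fun j => Mdl.ent M j i) ==
    [[0, 0, 1, 0], [0, 0, 0, 1], [1, 0, 0, 0], [0, 1, 0, 0]]

theorem ckSp_M : ckSp spM = true := by decide +kernel
theorem ckSp_U : ckSp spU = true := by decide +kernel

theorem toM_transpose {n : ℕ} (A : List (List ℕ)) (α : K) (m : Mdl) :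
    toM α m n ((List.range n).map fun i => (List.range n).map fun j => Mdl.ent A j i) = (toM α m n A)ᵀ := by
  ext i j
  rw [toM, Matrix.of_apply, ent_map (fun i j => Mdl.ent A j i) i.isLt j.isLt]
  rfl

/-- The matrix as one of the symplectic group. -/
theorem sp_mem (ha : m8.Root α) {A : List (List ℕ)} (h : ckSp A = true) :
    Matrix.reindex (finSumFinEquiv (m := 2) (n := 2)).symm (finSumFinEquiv (m := 2) (n := 2)).symm (toM α m8 4 A) ∈ Matrix.symplecticGroup (Fin 2) K := by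
  have h' := congrArg (toM α m8 4) (eq_of_beq h)
  rw [toM_mm ha, toM_mm ha, toM_transpose] at h'
  have hJ : Matrix.reindex (finSumFinEquiv (m := 2) (n := 2)).symm (finSumFinEquiv (m := 2) (n := 2)).symm
      (toM α m8 4 [[0, 0, 1, 0], [0, 0, 0, 1], [1, 0, 0, 0], [0, 1, 0, 0]]) = Matrix.J (Fin 2) K := by
    ext (i | i) (j | j) <;> fin_cases i <;> fin_cases j <;>
      simp [toM, Mdl.ent, Matrix.J, m8, val, CharTwo.neg_eq, finSumFinEquiv]
  rw [SymplecticGroup.mem_iff, ← hJ]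
  have := congrArg (Matrix.reindex (finSumFinEquiv (m := 2) (n := 2)).symm (finSumFinEquiv (m := 2) (n := 2)).symm) h'
  simpa [Matrix.reindex_apply, Matrix.submatrix_mul_equiv] using this

theorem psp2 (hK : Fintype.card K = 8) : ∃ g : Cfsg.PSp 2 K, orderOf g = 65 := by
  obtain ⟨a, ha⟩ := root8 (K := K) hK
  obtain ⟨h1, h2, h3⟩ := elt_spec ha (by decide) inv8 ck_sp
  let f : Matrix (Fin 4) (Fin 4) K ≃ₐ[K] Matrix (Fin 2 ⊕ Fin 2) (Fin 2 ⊕ Fin 2) K :=
    Matrix.reindexAlgEquiv K K (finSumFinEquiv (m := 2) (n := 2)).symm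
  refine ⟨_, orderOf_quot (g := (⟨f (toM a m8 4 spM), sp_mem ha ckSp_M⟩ : Matrix.symplecticGroup (Fin 2) K))
    (u := ⟨f (toM a m8 4 spU), sp_mem ha ckSp_U⟩) ?_ (fun e => h2 (f.injective ?_)) (fun e => h3 (f.injective ?_))⟩
  · refine Subtype.ext ?_
    rw [SubmonoidClass.coe_pow, ← map_pow, h1, map_one]
    rfl
  · simpa using congrArg Subtype.val e
  · simpa using congrArg Subtype.val e

theorem psl4 (hK : Fintype.card K = 8) : ∃ g : Matrix.ProjectiveSpecialLinearGroup (Fin 4) K, orderOf g = 65 := by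
  obtain ⟨a, ha⟩ := root8 (K := K) hK
  obtain ⟨h1, h2, h3⟩ := elt_spec ha (by decide) inv8 ck_sp
  exact psl_elt (by rw [hK]; norm_num) _ _ (det_inv ha (by decide) (by decide +kernel)) h1 h2 h3

/-- The block sum with the identity in the symplectic space of dimension six. -/
noncomputable def emb6 (A : Matrix (Fin 2 ⊕ Fin 2) (Fin 2 ⊕ Fin 2) K) :
    Matrix (Fin 3 ⊕ Fin 3) (Fin 3 ⊕ Fin 3) K :=
  Matrix.of fun i j =>
    if h : (Sum.elim id id i).val < 2 ∧ (Sum.elim id id j).val < 2 then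
      A (i.map (fun _ => (⟨_, h.1⟩ : Fin 2)) (fun _ => (⟨_, h.1⟩ : Fin 2)))
        (j.map (fun _ => (⟨_, h.2⟩ : Fin 2)) (fun _ => (⟨_, h.2⟩ : Fin 2)))
    else if i = j then 1 else 0

theorem emb6_mul (A B : Matrix (Fin 2 ⊕ Fin 2) (Fin 2 ⊕ Fin 2) K) : emb6 (A * B) = emb6 A * emb6 B := by
  ext (i | i) (j | j) <;> fin_cases i <;> fin_cases j <;>
    simp [emb6, Matrix.mul_apply, Fintype.sum_sum_type, Fin.sum_univ_three, Fin.sum_univ_two]

theorem emb6_one : emb6 (1 : Matrix (Fin 2 ⊕ Fin 2) (Fin 2 ⊕ Fin 2) K) = 1 := by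
  ext (i | i) (j | j) <;> fin_cases i <;> fin_cases j <;> simp [emb6, Matrix.one_apply]

theorem emb6_inj : Function.Injective (emb6 (K := K)) := by
  refine Function.LeftInverse.injective
    (g := fun B => Matrix.of fun i j => B (i.map Fin.castSucc Fin.castSucc) (j.map Fin.castSucc Fin.castSucc)) fun A => ?_
  ext (i | i) (j | j) <;> fin_cases i <;> fin_cases j <;> simp [emb6]

theorem emb6_transpose (A : Matrix (Fin 2 ⊕ Fin 2) (Fin 2 ⊕ Fin 2) K) : emb6 Aᵀ = (emb6 A)ᵀ := by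
  ext (i | i) (j | j) <;> fin_cases i <;> fin_cases j <;> simp [emb6]

theorem emb6_mem {A : Matrix (Fin 2 ⊕ Fin 2) (Fin 2 ⊕ Fin 2) K} (h : A ∈ Matrix.symplecticGroup (Fin 2) K) :
    emb6 A ∈ Matrix.symplecticGroup (Fin 3) K := by
  rw [SymplecticGroup.mem_iff] at h ⊢
  have hJ : Matrix.J (Fin 3) K = emb6 (Matrix.J (Fin 2) K) * (Matrix.of fun i j =>
      if (Sum.elim id id i).val < 2 then (if i = j then 1 else 0) else Matrix.J (Fin 3) K i j) := by
    ext (i | i) (j | j) <;> fin_cases i <;> fin_cases j <;>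
      simp [emb6, Matrix.mul_apply, Fintype.sum_sum_type, Fin.sum_univ_three, Matrix.J] <;>
      exact (Matrix.one_apply_eq _).symm
  set R : Matrix (Fin 3 ⊕ Fin 3) (Fin 3 ⊕ Fin 3) K := Matrix.of fun i j =>
      if (Sum.elim id id i).val < 2 then (if i = j then 1 else 0) else Matrix.J (Fin 3) K i j with hR
  have hcomm : R * (emb6 A)ᵀ = (emb6 A)ᵀ * R := by
    ext (i | i) (j | j) <;> fin_cases i <;> fin_cases j <;>
      simp [hR, emb6, Matrix.mul_apply, Fintype.sum_sum_type, Fin.sum_univ_three, Matrix.J]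
  conv_rhs => rw [hJ, ← h, emb6_mul, emb6_mul, emb6_transpose]
  rw [hJ, mul_assoc, mul_assoc, mul_assoc, mul_assoc, hcomm]

theorem psp3 (hK : Fintype.card K = 8) : ∃ g : Cfsg.PSp 3 K, orderOf g = 65 := by
  obtain ⟨a, ha⟩ := root8 (K := K) hK
  obtain ⟨h1, h2, h3⟩ := elt_spec ha (by decide) inv8 ck_sp
  let f : Matrix (Fin 4) (Fin 4) K ≃ₐ[K] Matrix (Fin 2 ⊕ Fin 2) (Fin 2 ⊕ Fin 2) K :=
    Matrix.reindexAlgEquiv K K (finSumFinEquiv (m := 2) (n := 2)).symm
  let e6 : Matrix (Fin 4) (Fin 4) K →* Matrix (Fin 3 ⊕ Fin 3) (Fin 3 ⊕ Fin 3) K :=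
    { toFun := fun A => emb6 (f A)
      map_one' := by rw [map_one, emb6_one]
      map_mul' := fun A B => by rw [map_mul, emb6_mul] }
  have hinj : Function.Injective e6 := fun A B e => f.injective (emb6_inj e)
  refine ⟨_, orderOf_quot (g := (⟨e6 (toM a m8 4 spM), emb6_mem (sp_mem ha ckSp_M)⟩ : Matrix.symplecticGroup (Fin 3) K))
    (u := ⟨e6 (toM a m8 4 spU), emb6_mem (sp_mem ha ckSp_U)⟩) ?_ (fun e => h2 (hinj ?_)) (fun e => h3 (hinj ?_))⟩
  · refine Subtype.ext ?_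
    rw [SubmonoidClass.coe_pow, ← map_pow, h1, map_one]
    rfl
  · simpa using congrArg Subtype.val e
  · simpa using congrArg Subtype.val e

/-- The unitary test. -/
def ckSU (A : List (List ℕ)) : Bool :=
  m64.mm 4 ((List.range 4).map fun i => (List.range 4).map fun j => Mdl.ent A j i)
      ((List.range 4).map fun i => (List.range 4).map fun j => m64.pw (Mdl.ent A i j) 8) == m64.mpw 4 A 0

theorem ckSU_M : ckSU suM = true := by decide +kernel
theorem ckSU_U : ckSU suU = true := by decide +kernel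

theorem val_pw {m : Mdl} (ha : m.Root α) (hd : 0 < m.deg) (a : ℕ) : ∀ k, val α m.deg (m.pw a k) = val α m.deg a ^ k
  | 0 => by rw [Mdl.pw, val_one α hd, pow_zero]
  | k + 1 => by rw [Mdl.pw, val_mul ha, val_pw ha hd a k, pow_succ]

theorem su_form (hK : Fintype.card K = 64) (ha : m64.Root α) {A : List (List ℕ)} (h : ckSU A = true) :
    ∀ u v : Fin 4 → K, Cfsg.hermForm 4 K 8 (toM α m64 4 A *ᵥ u) (toM α m64 4 A *ᵥ v) = Cfsg.hermForm 4 K 8 u v := by
  intro u v
  have h' := congrArg (toM α m64 4) (eq_of_beq h)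
  rw [toM_mm ha, toM_transpose, toM_mpw ha (by decide), pow_zero] at h'
  set M := toM α m64 4 A
  set M' := toM α m64 4 ((List.range 4).map fun i => (List.range 4).map fun j => m64.pw (Mdl.ent A i j) 8) with hM'
  have e8 : ∀ w : Fin 4 → K, (fun i => (M *ᵥ w) i ^ 8) = M' *ᵥ (fun i => w i ^ 8) := fun w => funext fun i => by
    have hpow : ∀ x y : K, (x + y) ^ (2 ^ 3) = x ^ (2 ^ 3) + y ^ (2 ^ 3) := fun x y => add_pow_char_pow x y 2 3
    norm_num at hpow
    simp only [Matrix.mulVec, dotProduct, Fin.sum_univ_four, hpow, mul_pow, hM', toM, Matrix.of_apply]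
    simp only [ent_map (fun i j => m64.pw (Mdl.ent A i j) 8) i.isLt (show (0 : ℕ) < 4 by norm_num),
      ent_map (fun i j => m64.pw (Mdl.ent A i j) 8) i.isLt (show (1 : ℕ) < 4 by norm_num),
      ent_map (fun i j => m64.pw (Mdl.ent A i j) 8) i.isLt (show (2 : ℕ) < 4 by norm_num),
      ent_map (fun i j => m64.pw (Mdl.ent A i j) 8) i.isLt (show (3 : ℕ) < 4 by norm_num),
      show ((0 : Fin 4) : ℕ) = 0 from rfl, show ((1 : Fin 4) : ℕ) = 1 from rfl,
      show ((2 : Fin 4) : ℕ) = 2 from rfl, show ((3 : Fin 4) : ℕ) = 3 from rfl, val_pw ha (by decide)]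
    rfl
  show (M *ᵥ u) ⬝ᵥ (fun i => (M *ᵥ v) i ^ 8) = u ⬝ᵥ (fun i => v i ^ 8)
  rw [e8, Matrix.dotProduct_mulVec, ← Matrix.vecMul_transpose, Matrix.vecMul_vecMul, h', Matrix.vecMul_one]

theorem su_det (hK : Fintype.card K = 64) (ha : m64.Root α) {A : List (List ℕ)} (h : ckSU A = true) :
    (toM α m64 4 A).det ^ 9 = 1 := by
  have h' := congrArg (toM α m64 4) (eq_of_beq h)
  rw [toM_mm ha, toM_transpose, toM_mpw ha (by decide), pow_zero] at h'
  have hM' : toM α m64 4 ((List.range 4).map fun i => (List.range 4).map fun j => m64.pw (Mdl.ent A i j) 8) =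
      ((frobenius K 2) ^ 3 : K →+* K).mapMatrix (toM α m64 4 A) := by
    ext i j
    rw [toM, Matrix.of_apply, ent_map (fun i j => m64.pw (Mdl.ent A i j) 8) i.isLt j.isLt, val_pw ha (by decide)]
    simp [toM, frobenius_def, pow_succ, RingHom.coe_mul]
    ring
  have hd := congrArg Matrix.det h'
  rw [Matrix.det_mul, Matrix.det_transpose, hM', ← RingHom.map_det, Matrix.det_one] at hd
  simp [frobenius_def, pow_succ, RingHom.coe_mul] at hd
  linear_combination hd

theorem psu4 (hK : Fintype.card K = 64) : ∃ g : Cfsg.PSU 4 K 8, orderOf g = 65 := by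
  obtain ⟨a, ha⟩ := root64 (K := K) hK
  obtain ⟨h1, h2, h3⟩ := elt_spec ha (by decide) inv64 ck_su
  have hd : (toM a m64 4 suM).det = 1 := det_one h1 (k := 9) (by norm_num) (su_det hK ha ckSU_M)
  have hU : (toM a m64 4 suU).det = 1 := det_inv ha (by decide) (by decide +kernel)
  exact ⟨_, quot_of_hom (G := Cfsg.SU 4 K 8)
    { toFun := fun A => (A.1.1 : Matrix (Fin 4) (Fin 4) K), map_one' := rfl, map_mul' := fun _ _ => rfl }
    (fun _ _ e => Subtype.ext (Subtype.ext e)) (g := ⟨⟨toM a m64 4 suM, hd⟩, su_form hK ha ckSU_M⟩)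
    (u := ⟨⟨toM a m64 4 suU, hU⟩, su_form hK ha ckSU_U⟩) h1 h2 h3⟩

end Cfsg.Agent.Chev.E7Sixty
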