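/-
Finite-order integer matrices of rank seven: the range of a matrix fixed by an element of order five.
-/
import Cfsg.Agent.Lib.Chev.CyclTorus.Orbits
import Mathlib.LinearAlgebra.Charpoly.Basic
import Mathlib.LinearAlgebra.FiniteDimensional.Lemmas

set_option autoImplicit false
set_option maxHeartbeats 1000000

namespace Cfsg.Agent.Chev.E7Sixty

open Polynomial

variable {V : Type*} [AddCommGroup V] [Module ℚ V] [FiniteDimensional ℚ V]

/-- A polynomial killed by small degree: the cyclotomic factors of small degree. -/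
theorem aeval_small (T : Module.End ℚ V) {o : ℕ} (ho : 0 < o) (hT : T ^ o = 1)
    (hd : Module.finrank ℚ V ≤ 3) : aeval T (((Polynomial.X : ℚ[X]) ^ 4 - 1) * (Polynomial.X ^ 6 - 1)) = 0 := by
  classical
  rw [← minpoly.dvd_iff]
  have h1 : minpoly ℚ T ∣ Polynomial.X ^ o - 1 := minpoly.dvd ℚ T (by simp [hT])
  have hdeg : (minpoly ℚ T).natDegree ≤ 3 := by
    refine le_trans ?_ hd
    rw [← LinearMap.charpoly_natDegree T]
    exact natDegree_le_of_dvd (LinearMap.minpoly_dvd_charpoly T) T.charpoly_monic.ne_zero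
  have hne : minpoly ℚ T ≠ 0 := minpoly.ne_zero (IsIntegral.of_finite ℚ T)
  rw [← prod_cyclotomic_eq_X_pow_sub_one ho,
    ← Finset.prod_filter_mul_prod_filter_not o.divisors (fun d => d.totient ≤ 3)] at h1
  have h2 : IsCoprime (minpoly ℚ T) (∏ d ∈ o.divisors.filter (fun d => ¬ d.totient ≤ 3), cyclotomic d ℚ) := by
    refine IsCoprime.prod_right fun d hd => ?_
    obtain ⟨hd1, hd2⟩ := Finset.mem_filter.1 hd
    refine ((cyclotomic.irreducible_rat (Nat.pos_of_mem_divisors hd1)).coprime_iff_not_dvd.2 fun h => ?_).symm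
    have h3 := natDegree_le_of_dvd h hne
    rw [natDegree_cyclotomic] at h3
    omega
  refine (h2.dvd_of_dvd_mul_right h1).trans ?_
  have hsub : o.divisors.filter (fun d => d.totient ≤ 3) ⊆ (4 : ℕ).divisors ∪ (6 : ℕ).divisors := by
    intro d hd
    obtain ⟨hd1, hd2⟩ := Finset.mem_filter.1 hd
    have hd0 := Nat.pos_of_mem_divisors hd1
    have h2' : d.totient ≤ 2 := by
      rcases Nat.lt_or_ge d 3 with h | h
      · interval_cases d <;> decide
      · obtain ⟨k, hk⟩ := Nat.totient_even h
        omega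
    have h12 := CyclTorus.eq_dvd_twelve hd0 h2'
    have key : ∀ d ∈ (12 : ℕ).divisors, d.totient ≤ 3 → d ∈ (4 : ℕ).divisors ∪ (6 : ℕ).divisors := by decide
    exact key d (Nat.mem_divisors.2 ⟨h12, by norm_num⟩) hd2
  refine (Finset.prod_dvd_prod_of_subset _ _ _ hsub).trans ⟨∏ d ∈ (4 : ℕ).divisors ∩ (6 : ℕ).divisors, cyclotomic d ℚ, ?_⟩
  rw [Finset.prod_union_inter, prod_cyclotomic_eq_X_pow_sub_one (by norm_num),
    prod_cyclotomic_eq_X_pow_sub_one (by norm_num)]

/-- An element of order five moves a subspace of dimension four. -/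
theorem four_le_range (N : Module.End ℚ V) (h5 : N ^ 5 = 1) (h1 : N ≠ 1) :
    4 ≤ Module.finrank ℚ (LinearMap.range (N - 1)) := by
  set R := LinearMap.range (N - 1) with hR
  have hinv : ∀ v ∈ R, N v ∈ R := by
    rintro _ ⟨w, rfl⟩
    exact ⟨N w, by simp⟩
  haveI : Nontrivial R := Submodule.nontrivial_iff_ne_bot.2 fun e => h1 (by
    rw [hR, LinearMap.range_eq_bot, sub_eq_zero] at e
    exact e)
  set Nr := N.restrict hinv with hNr
  haveI : Fact (Nat.Prime 5) := ⟨by norm_num⟩
  have h0 : aeval Nr (cyclotomic 5 ℚ) = 0 := by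
    rw [cyclotomic_prime, map_sum]
    apply LinearMap.ext
    rintro ⟨_, w, rfl⟩
    apply Subtype.ext
    simp only [map_pow, aeval_X, hNr, Module.End.pow_restrict, LinearMap.coe_sum, Finset.sum_apply,
      AddSubmonoidClass.coe_finsetSum, LinearMap.restrict_coe_apply, LinearMap.zero_apply, ZeroMemClass.coe_zero]
    have e := congrArg (fun A : Module.End ℚ V => A w) (geom_sum_mul N 5)
    simp only [h5, sub_self, Module.End.mul_apply, LinearMap.coe_sum, Finset.sum_apply, LinearMap.zero_apply] at e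
    exact e
  have hirr := cyclotomic.irreducible_rat (show 0 < 5 by norm_num)
  have h2 := minpoly.eq_of_irreducible_of_monic hirr h0 (cyclotomic.monic 5 ℚ)
  have h3 := natDegree_le_of_dvd (LinearMap.minpoly_dvd_charpoly Nr) Nr.charpoly_monic.ne_zero
  rw [LinearMap.charpoly_natDegree, ← h2,
    natDegree_cyclotomic] at h3
  exact le_trans (by decide) h3

/-- The kill: the small-degree identity on the range of a matrix fixed by an element of order five. -/
theorem matrix_kill {n : ℕ} (hn : n ≤ 7) {M N E : Matrix (Fin n) (Fin n) ℤ} (h5 : N ^ 5 = 1) (h1 : N ≠ 1)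
    (hNE : N * E = E) (hME : M * E = E * M) {o : ℕ} (ho : 0 < o) (hM : M ^ o = 1) :
    (M ^ 4 - 1) * (M ^ 6 - 1) * E = 0 := by
  classical
  let φ : Matrix (Fin n) (Fin n) ℤ →+* Module.End ℚ (Fin n → ℚ) :=
    (Matrix.toLinAlgEquiv' : Matrix (Fin n) (Fin n) ℚ ≃ₐ[ℚ] _).toRingHom.comp (Int.castRingHom ℚ).mapMatrix
  have hφ : Function.Injective φ := by
    intro A B e
    have e' := (Matrix.toLinAlgEquiv' : Matrix (Fin n) (Fin n) ℚ ≃ₐ[ℚ] _).injective e
    exact Matrix.map_injective (Int.cast_injective (α := ℚ)) e'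
  apply hφ
  rw [map_zero]
  set M' := φ M with hM'
  set N' := φ N with hN'
  set E' := φ E with hE'
  set R := LinearMap.range E' with hR
  have e1 : M' * E' = E' * M' := by rw [← map_mul, ← map_mul, hME]
  have e2 : N' * E' = E' := by rw [← map_mul, hNE]
  have hinv : ∀ v ∈ R, M' v ∈ R := by
    rintro _ ⟨w, rfl⟩
    exact ⟨M' w, (LinearMap.congr_fun e1 w).symm⟩
  have hR3 : Module.finrank ℚ R ≤ 3 := by
    have h4 := four_le_range N' (by rw [hN', ← map_pow, h5, map_one])
      (fun e => h1 (hφ (by rw [← hN', e, map_one])))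
    have hle : R ≤ LinearMap.ker (N' - 1) := by
      rintro _ ⟨w, rfl⟩
      rw [LinearMap.mem_ker, LinearMap.sub_apply, Module.End.one_apply, sub_eq_zero]
      exact LinearMap.congr_fun e2 w
    have h7 := LinearMap.finrank_range_add_finrank_ker (N' - 1)
    rw [Module.finrank_pi, Fintype.card_fin] at h7
    have := Submodule.finrank_mono hle
    omega
  have hMr : M'.restrict hinv ^ o = 1 := by
    apply LinearMap.ext
    intro v
    apply Subtype.ext
    rw [Module.End.pow_restrict, LinearMap.restrict_coe_apply, hM', ← map_pow, hM, map_one]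
    rfl
  have h0 := aeval_small _ ho hMr hR3
  apply LinearMap.ext
  intro w
  have h2 := congrArg Subtype.val (LinearMap.congr_fun h0 ⟨E' w, w, rfl⟩)
  simp only [map_mul, map_sub, map_pow, map_one, aeval_X, Module.End.mul_apply, LinearMap.sub_apply,
    Module.End.pow_restrict, LinearMap.restrict_coe_apply, Module.End.one_apply, AddSubgroupClass.coe_sub,
    LinearMap.zero_apply, ZeroMemClass.coe_zero] at h2
  simp only [map_mul, map_sub, map_pow, map_one, Module.End.mul_apply, LinearMap.sub_apply,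
    Module.End.one_apply, LinearMap.zero_apply]
  exact h2

/-- Eigenvectors for three different values are independent. -/
theorem three_indep : ∀ p q s : ZMod 13, p + q + s = 0 → 2 * p + 6 * q + 5 * s = 0 →
    4 * p + 10 * q + 12 * s = 0 → p = 0 ∧ q = 0 ∧ s = 0 := by decide +kernel

theorem card_eigen {n : ℕ} (M : Matrix (Fin n) (Fin n) (ZMod 13))
    (h : ∀ a : ZMod 13, a = 2 ∨ a = 6 ∨ a = 5 → ∃ v : Fin n → ZMod 13, v ≠ 0 ∧ M.mulVec v = a • v) :
    13 ^ 3 ≤ Nat.card {x : Fin n → ZMod 13 // (M ^ 3).mulVec x = (8 : ZMod 13) • x} := by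
  classical
  obtain ⟨u, hu, eu⟩ := h 2 (Or.inl rfl)
  obtain ⟨v, hv, ev⟩ := h 6 (Or.inr (Or.inl rfl))
  obtain ⟨w, hw, ew⟩ := h 5 (Or.inr (Or.inr rfl))
  have h3 : ∀ (a : ZMod 13) (x : Fin n → ZMod 13), M.mulVec x = a • x → a ^ 3 = 8 →
      (M ^ 3).mulVec x = (8 : ZMod 13) • x := fun a x e ea => by
    rw [pow_succ, pow_succ, pow_one, ← Matrix.mulVec_mulVec, ← Matrix.mulVec_mulVec, e, Matrix.mulVec_smul, e,
      Matrix.mulVec_smul, Matrix.mulVec_smul, e, smul_smul, smul_smul, ← ea]
    ring_nf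
  let F : ZMod 13 × ZMod 13 × ZMod 13 → {x : Fin n → ZMod 13 // (M ^ 3).mulVec x = (8 : ZMod 13) • x} :=
    fun t => ⟨t.1 • u + t.2.1 • v + t.2.2 • w, by
      rw [Matrix.mulVec_add, Matrix.mulVec_add, Matrix.mulVec_smul, Matrix.mulVec_smul, Matrix.mulVec_smul,
        h3 2 u eu (by decide), h3 6 v ev (by decide), h3 5 w ew (by decide)]
      module⟩
  have hF : Function.Injective F := by
    rintro ⟨a, b, c⟩ ⟨a', b', c'⟩ e
    have e0 : (a - a') • u + (b - b') • v + (c - c') • w = 0 := by
      have := congrArg Subtype.val e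
      simp only [F] at this
      rw [← sub_eq_zero] at this
      rw [← this]
      module
    have e1 := congrArg M.mulVec e0
    simp only [Matrix.mulVec_add, Matrix.mulVec_smul, eu, ev, ew, Matrix.mulVec_zero] at e1
    have e2 := congrArg M.mulVec e1
    simp only [Matrix.mulVec_add, Matrix.mulVec_smul, eu, ev, ew, Matrix.mulVec_zero] at e2
    have key : ∀ i, (a - a') * u i = 0 ∧ (b - b') * v i = 0 ∧ (c - c') * w i = 0 := fun i => by
      have f0 := congrFun e0 i
      have f1 := congrFun e1 i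
      have f2 := congrFun e2 i
      simp only [Pi.add_apply, Pi.smul_apply, smul_eq_mul, Pi.zero_apply] at f0 f1 f2
      refine three_indep _ _ _ f0 (by linear_combination f1) ?_
      have h13 : (13 : ZMod 13) = 0 := rfl
      linear_combination f2 - (2 * (b - b') * v i + (c - c') * w i) * h13
    haveI : Fact (Nat.Prime 13) := ⟨by norm_num⟩
    have get : ∀ (d : ZMod 13) (z : Fin n → ZMod 13), z ≠ 0 → (∀ i, d * z i = 0) → d = 0 := fun d z hz hd => by
      by_contra hd0
      exact hz (funext fun i => (mul_eq_zero.1 (hd i)).resolve_left hd0)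
    rw [sub_eq_zero.1 (get _ u hu fun i => (key i).1), sub_eq_zero.1 (get _ v hv fun i => (key i).2.1),
      sub_eq_zero.1 (get _ w hw fun i => (key i).2.2)]
  have := Nat.card_le_card_of_injective F hF
  simpa [Nat.card_prod] using this

end Cfsg.Agent.Chev.E7Sixty
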