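/-
The group of type E₇ over the field with two elements has no element of order 65.
-/
import Cfsg.Agent.Lib.Chev.E7Sixty.Lin
import Cfsg.Agent.Lib.Chev.F4Graph.Torus
import Cfsg.Agent.Lib.Chev.AllW7
import Cfsg.Agent.Lib.Chev.AllC
import Mathlib.FieldTheory.Finite.Extension
import Mathlib.GroupTheory.Sylow

set_option autoImplicit false
set_option maxRecDepth 20000
set_option maxHeartbeats 2000000

namespace Cfsg.Agent.Chev.E7Sixty

open Cfsg.Lie Cfsg.Agent.Chev Cfsg.Agent.Chev.CyclTorus Cfsg.Agent.Chev.F4Graph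
open scoped Matrix

/-- An element normalising the torsion of a commutative subgroup whose index is divisible by the prime. -/
theorem exists_outside {G : Type*} [Group G] [Finite G] {p : ℕ} [Fact p.Prime] (T : Subgroup G)
    (hcomm : ∀ a ∈ T, ∀ b ∈ T, a * b = b * a) (hidx : p ∣ T.index) :
    ∃ x : G, x ∉ T ∧ (∃ j, x ^ p ^ j = 1) ∧ ∀ g ∈ T, g ^ p = 1 → x * g * x⁻¹ ∈ T := by
  classical
  have hp := (Fact.out : p.Prime)
  obtain ⟨S0⟩ : Nonempty (Sylow p ↥T) := inferInstance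
  set n := (Nat.card ↥T).factorization p with hn
  set H := (S0 : Subgroup ↥T).map T.subtype with hH
  have hHc : Nat.card ↥H = p ^ n := by
    rw [hH, ← Nat.card_congr ((S0 : Subgroup ↥T).equivMapOfInjective T.subtype T.subtype_injective).toEquiv,
      Sylow.card_eq_multiplicity]
  have hdvd : p ^ (n + 1) ∣ Nat.card G := by
    rw [← T.card_mul_index, pow_succ]
    exact mul_dvd_mul (Nat.ordProj_dvd _ _) hidx
  obtain ⟨K, hK⟩ := Sylow.exists_subgroup_card_pow_prime p (Sylow.prime_pow_dvd_card_normalizer hdvd hHc)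
  have hnot : ¬ ∀ k ∈ K, (k : G) ∈ T := fun hall => by
    have h1 : Nat.card ↥(K.map (Subgroup.subtype _)) ∣ Nat.card ↥T :=
      Subgroup.card_dvd_of_le (by rintro _ ⟨k, hk, rfl⟩; exact hall k hk)
    rw [← Nat.card_congr (K.equivMapOfInjective _ (Subgroup.subtype_injective _)).toEquiv, hK] at h1
    exact Nat.pow_succ_factorization_not_dvd Nat.card_pos.ne' hp h1
  simp only [not_forall] at hnot
  obtain ⟨x, hxK, hxT⟩ := hnot
  refine ⟨x, hxT, ⟨n + 1, ?_⟩, fun g hg hgp => ?_⟩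
  · have h1 : (⟨x, hxK⟩ : K) ^ Nat.card ↥K = 1 := pow_card_eq_one'
    rw [hK] at h1
    simpa using congrArg (fun k : K => ((k : _) : G)) h1
  · have hmul : ∀ a b : ↥T, a * b = b * a := fun a b => Subtype.ext (hcomm a a.2 b b.2)
    haveI : (S0 : Subgroup ↥T).Normal := ⟨fun s hs t => by rw [hmul t s, mul_inv_cancel_right]; exact hs⟩
    haveI := Sylow.unique_of_normal S0 inferInstance
    have hpg : IsPGroup p (Subgroup.zpowers (⟨g, hg⟩ : T)) := by
      rintro ⟨_, k, rfl⟩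
      refine ⟨1, Subtype.ext ?_⟩
      have : (⟨g, hg⟩ : T) ^ p = 1 := Subtype.ext hgp
      simp only [pow_one, SubgroupClass.coe_pow, OneMemClass.coe_one]
      rw [← zpow_natCast, ← zpow_mul, mul_comm, zpow_mul, zpow_natCast, this, one_zpow]
    obtain ⟨S1, hS1⟩ := hpg.exists_le_sylow
    rw [Subsingleton.elim S1 S0] at hS1
    have hgH : g ∈ H := ⟨⟨g, hg⟩, hS1 (Subgroup.mem_zpowers _), rfl⟩
    obtain ⟨w, -, hw⟩ := (Subgroup.mem_normalizer_iff.1 x.2 g).1 hgH
    rw [← hw]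
    exact w.2

/-- Two roots with the same pairings modulo five are equal. -/
theorem inj5 : (E7.pk.allRoots.all fun r => E7.pk.allRoots.all fun s => Nat.beq r s ||
    !((List.range E7.pk.rank).all fun i => decide ((E7.pk.A i r - E7.pk.A i s) % 5 = 0))) = true := by
  decide +kernel

theorem nonzero5 : (E7.pk.allRoots.all fun r =>
    (List.range E7.pk.rank).any fun i => decide (E7.pk.A i r % 5 ≠ 0)) = true := by decide +kernel

theorem allRoots_mem {r : ℕ} (hr : r < E7.pk.nroots) : r ∈ E7.pk.allRoots := by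
  simpa [Pk.allRoots] using hr

theorem eq_of_mod5 {r s : ℕ} (hr : r < E7.pk.nroots) (hs : s < E7.pk.nroots)
    (e : ∀ i < E7.pk.rank, (E7.pk.A i r - E7.pk.A i s) % 5 = 0) : r = s := by
  have h1 := List.all_eq_true.1 (List.all_eq_true.1 inj5 r (allRoots_mem hr)) s (allRoots_mem hs)
  rw [Bool.or_eq_true, Bool.not_eq_true', List.all_eq_false] at h1
  rcases h1 with h1 | ⟨i, hi, h1⟩
  · exact Nat.eq_of_beq_eq_true h1
  · exact absurd (e i (List.mem_range.1 hi)) (by simpa using h1)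

theorem exists_mod5 {r : ℕ} (hr : r < E7.pk.nroots) : ∃ i < E7.pk.rank, E7.pk.A i r % 5 ≠ 0 := by
  have h1 := List.all_eq_true.1 nonzero5 r (allRoots_mem hr)
  rw [List.any_eq_true] at h1
  obtain ⟨i, hi, h1⟩ := h1
  exact ⟨i, List.mem_range.1 hi, by simpa using h1⟩

/-- The order of the Weyl group. -/
theorem ds_prod : (([2, 6, 8, 10, 12, 14, 18] : List ℕ)).prod = 2903040 := by decide

theorem WM_ord {l : List ℕ} (hl : WordOk E7.pk l) : WM E7.pk l ^ 2903040 = 1 := by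
  rw [← ds_prod]
  exact HomSylow.WM_pow_card E7.ok ckComm_E7 (J := [6, 5, 4, 3, 2, 1, 0]) (by decide) ckOrb_E7 poinP_E7 (by decide) hl

theorem mod_facts : pev 4096 (pgeom [2, 6, 8, 10, 12, 14, 18]) % 13 ≠ 0 ∧
    pev 4096 (pgeom [2, 6, 8, 10, 12, 14, 18]) % 25 ≠ 0 := by decide +kernel

variable {L : Type*} [Field L] [Fintype L]

/-- The split torus. -/
noncomputable def TL (L : Type*) [Field L] : Subgroup ↥(chevE7.group L) :=
  (chevE7.diagonalSubgroup L).subgroupOf (chevE7.group L)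

theorem mem_TL {g : ↥(chevE7.group L)} (hg : g ∈ TL L) :
    ∃ c : Fin E7.pk.rank → Lˣ, E7.ok.hHom c = (g : GL chevE7.Idx L) :=
  E7.ok.mem_diagonal_iff.1 (Subgroup.mem_subgroupOf.1 hg)

theorem index_13 (hL : Fintype.card L = 4096) : ¬ 13 ∣ (TL L).index := by
  have e0 := E7.ok.card_group (F := L) ckComm_E7 (J := [6, 5, 4, 3, 2, 1, 0]) (by decide)
  have e1 := (TL L).card_mul_index
  rw [TL, Nat.card_congr (Subgroup.subgroupOfEquivOfLe E7.ok.diagonal_le_group).toEquiv, e0,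
    E7.ok.poin_eq [6, 5, 4, 3, 2, 1, 0] ckOrb_E7, poinP_E7, hL,
    mul_comm _ (Nat.card ↥(chevE7.diagonalSubgroup L)), mul_assoc] at e1
  have e2 := Nat.eq_of_mul_eq_mul_left Nat.card_pos e1
  intro hdvd
  rw [TL, e2] at hdvd
  have h13 : Nat.Coprime 13 4096 := by norm_num
  have h := (h13.pow_right (E7.pk.nroots / 2)).dvd_of_dvd_mul_left hdvd
  exact mod_facts.1 (Nat.mod_eq_zero_of_dvd h)

theorem zpow_inj5 {ζ : Lˣ} (hζ : IsPrimitiveRoot ζ 5) {a b : ℤ} (e : (ζ : L) ^ a = (ζ : L) ^ b) :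
    (a - b) % 5 = 0 := by
  have h1 : ζ ^ a = ζ ^ b := Units.ext (by simpa using e)
  have h2 : ζ ^ (a - b) = 1 := by rw [zpow_sub, h1, mul_inv_cancel]
  exact Int.emod_eq_zero_of_dvd ((hζ.zpow_eq_one_iff_dvd _).1 h2)

theorem hchar_single (ζ : Lˣ) (i : Fin E7.pk.rank) (r : ℕ) :
    hchar E7.pk (Pi.mulSingle i ζ) r = (ζ : L) ^ E7.pk.A i r := by
  rw [hchar, Finset.prod_eq_single i]
  · rw [Pi.mulSingle_eq_same]
  · intro j _ hj
    rw [Pi.mulSingle_eq_of_ne hj, Units.val_one, one_zpow]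
  · simp

/-- A Weyl element of order five fixing the exponents of a torus element whose centralizer has more fives. -/
theorem exists_five {c : Fin E7.pk.rank → Lˣ} {ζ : Lˣ} (hζ : IsPrimitiveRoot ζ 5)
    {t : ↥(chevE7.group L)} (ht : (t : GL chevE7.Idx L) = E7.ok.hHom c)
    (h5 : 5 ∣ ((TL L).subgroupOf (Subgroup.centralizer ({t} : Set ↥(chevE7.group L)))).index) :
    ∃ l, WordOk E7.pk l ∧ WM E7.pk l ^ 5 = 1 ∧ WM E7.pk l ≠ 1 ∧ Rel E7.pk l 1 c := by
  classical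
  haveI : Fact (Nat.Prime 5) := ⟨by norm_num⟩
  set C := Subgroup.centralizer ({t} : Set ↥(chevE7.group L)) with hC
  set T := (TL L).subgroupOf C with hT
  obtain ⟨x, hxT, ⟨j, hxj⟩, hx⟩ := exists_outside T (fun a ha b hb => by
    obtain ⟨ca, hca⟩ := mem_TL (Subgroup.mem_subgroupOf.1 ha)
    obtain ⟨cb, hcb⟩ := mem_TL (Subgroup.mem_subgroupOf.1 hb)
    apply Subtype.ext
    apply Subtype.ext
    show ((a : ↥(chevE7.group L)) : GL chevE7.Idx L) * ((b : ↥(chevE7.group L)) : GL chevE7.Idx L) = _ * _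
    rw [← hca, ← hcb, ← map_mul, mul_comm, map_mul]) h5
  set xg : GL chevE7.Idx L := ((x : ↥(chevE7.group L)) : GL chevE7.Idx L) with hxg
  have hxG : xg ∈ chevE7.group L := (x : ↥(chevE7.group L)).2
  have hxc : xg * E7.ok.hHom c * xg⁻¹ = E7.ok.hHom c := by
    have h1 : t * (x : ↥(chevE7.group L)) = x * t := Subgroup.mem_centralizer_iff.1 x.2 t (Set.mem_singleton _)
    have h2 := congrArg (fun g : ↥(chevE7.group L) => (g : GL chevE7.Idx L)) h1
    simp only [Subgroup.coe_mul, ht, ← hxg] at h2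
    rw [← h2, mul_inv_cancel_right]
  obtain ⟨b, hb, l, hl, u, hu, hbnu⟩ := E7.ok.bruhat_exists ckComm_E7 hxG
  have hconj : ∀ d d' : Fin E7.pk.rank → Lˣ, xg * E7.ok.hHom d * xg⁻¹ = E7.ok.hHom d' →
      E7.ok.nW l * E7.ok.hHom d * (E7.ok.nW l)⁻¹ = E7.ok.hHom d' := fun d d' e =>
    HomSylow.weyl_conj E7.ok hl hb hu (E7.ok.mem_diagonal_iff.2 ⟨d', rfl⟩) (E7.ok.mem_diagonal_iff.2 ⟨d, rfl⟩)
      (hbnu ▸ e)
  have hst : ∀ d : Fin E7.pk.rank → Lˣ, E7.ok.hHom d ^ 5 = 1 →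
      ∃ d' : Fin E7.pk.rank → Lˣ, E7.ok.hHom d' ^ 5 = 1 ∧ xg * E7.ok.hHom d * xg⁻¹ = E7.ok.hHom d' := by
    intro d hd
    have hdG : E7.ok.hHom d ∈ chevE7.group L :=
      E7.ok.diagonal_le_group (E7.ok.mem_diagonal_iff.2 ⟨d, rfl⟩)
    have hdC : (⟨_, hdG⟩ : ↥(chevE7.group L)) ∈ C := Subgroup.mem_centralizer_iff.2 fun z hz => by
      rw [Set.mem_singleton_iff.1 hz]
      apply Subtype.ext
      show (t : GL chevE7.Idx L) * E7.ok.hHom d = E7.ok.hHom d * t
      rw [ht, ← map_mul, mul_comm, map_mul]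
    have h1 := hx ⟨_, hdC⟩
      (Subgroup.mem_subgroupOf.2 (Subgroup.mem_subgroupOf.2 (E7.ok.mem_diagonal_iff.2 ⟨d, rfl⟩)))
      (Subtype.ext (Subtype.ext (by simpa using hd)))
    obtain ⟨d', hd'⟩ := mem_TL (Subgroup.mem_subgroupOf.1 h1)
    simp only [Subgroup.coe_mul, Subgroup.coe_inv, ← hxg] at hd'
    refine ⟨d', ?_, hd'.symm⟩
    rw [hd', conj_pow, hd]
    group
  have hiter : ∀ k : ℕ, ∀ d : Fin E7.pk.rank → Lˣ, E7.ok.hHom d ^ 5 = 1 →
      ∃ d' : Fin E7.pk.rank → Lˣ, E7.ok.hHom d' ^ 5 = 1 ∧ xg ^ k * E7.ok.hHom d * (xg ^ k)⁻¹ = E7.ok.hHom d' ∧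
        E7.ok.nW (pw k l) * E7.ok.hHom d * (E7.ok.nW (pw k l))⁻¹ = E7.ok.hHom d' := by
    intro k
    induction k with
    | zero =>
      intro d hd
      exact ⟨d, hd, by simp, by rw [show pw 0 l = [] from rfl, E7.ok.nW_nil]; simp⟩
    | succ k ih =>
      intro d hd
      obtain ⟨d1, hd1, e1, e2⟩ := ih d hd
      obtain ⟨d2, hd2, e3⟩ := hst d1 hd1
      refine ⟨d2, hd2, ?_, ?_⟩
      · rw [pow_succ', mul_inv_rev, ← e3, ← e1]
        group
      · rw [show pw (k + 1) l = l ++ pw k l by simp [pw, List.replicate_succ], E7.ok.nW_append, mul_inv_rev,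
          ← hconj d1 d2 e3, ← e2]
        group
  have hsingle : ∀ i : Fin E7.pk.rank, E7.ok.hHom (Pi.mulSingle i ζ : Fin E7.pk.rank → Lˣ) ^ 5 = 1 := by
    intro i
    rw [← map_pow]
    convert map_one (E7.ok.hHom (F := L))
    funext k
    by_cases hk : k = i
    · subst hk; simp [hζ.pow_eq_one]
    · simp [hk]
  have hwl : ∀ r < E7.pk.nroots, wl E7.pk (pw (5 ^ j) l) r = r := by
    intro r hr
    refine eq_of_mod5 (E7.ok.wl_lt _ (wordOk_pw hl _) r hr) hr fun i hi => ?_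
    obtain ⟨d', -, e1, e2⟩ := hiter (5 ^ j) _ (hsingle ⟨i, hi⟩)
    have hx1 : xg ^ 5 ^ j = 1 := by
      have := congrArg (fun g : C => ((g : ↥(chevE7.group L)) : GL chevE7.Idx L)) hxj
      simpa [hxg] using this
    rw [hx1, one_mul, inv_one, mul_one] at e1
    rw [← e1] at e2
    have e3 := char_wl E7.ok (wordOk_pw hl _) e2 hr
    rw [hchar_single, hchar_single] at e3
    exact zpow_inj5 hζ e3
  have hM : WM E7.pk l ^ 5 = 1 := by
    have h1 : WM E7.pk l ^ 5 ^ j = 1 := by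
      rw [← WM_pw E7.ok hl, ← WM_nil E7.ok]
      exact WM_congr E7.ok hwl
    have h2 := pow_gcd_eq_one.2 ⟨h1, WM_ord hl⟩
    obtain ⟨i, -, hi⟩ := (Nat.dvd_prime_pow (by norm_num : Nat.Prime 5)).1 (Nat.gcd_dvd_left (5 ^ j) 2903040)
    rw [hi] at h2
    have h3 : 5 ^ i ∣ 2903040 := hi ▸ Nat.gcd_dvd_right _ _
    rcases Nat.lt_or_ge i 2 with hi2 | hi2
    · interval_cases i
      · rw [pow_zero, pow_one] at h2
        rw [h2, one_pow]
      · rw [pow_one] at h2
        exact h2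
    · exact absurd ((pow_dvd_pow 5 hi2).trans h3) (by norm_num)
  refine ⟨l, hl, hM, fun h1 => hxT ?_, fun r hr => ?_⟩
  · have hid := wl_eq_of_WM E7.ok hl h1
    have hd := E7.ok.nW_mem_diagonal (F := L) hl hid
    obtain ⟨cn, hcn⟩ := E7.ok.mem_diagonal_iff.1 hd
    refine Subgroup.mem_subgroupOf.2 (Subgroup.mem_subgroupOf.2 ?_)
    refine centralizer_of_family E7.ok ckComm_E7 (fun i : Fin E7.pk.rank => (Pi.mulSingle i ζ : Fin E7.pk.rank → Lˣ))
      (fun r hr => ?_) (fun l' hl' e r hr => ?_) hxG fun i => ?_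
    · obtain ⟨i, hi, hne⟩ := exists_mod5 hr
      refine ⟨⟨i, hi⟩, fun e => hne ?_⟩
      rw [hchar_single, ← zpow_zero (ζ : L)] at e
      simpa using zpow_inj5 hζ e
    · refine eq_of_mod5 (E7.ok.wl_lt l' hl' r hr) hr fun i hi => ?_
      have e' := e ⟨i, hi⟩ r hr
      rw [hchar_single, hchar_single] at e'
      exact zpow_inj5 hζ e'
    · obtain ⟨d', -, e⟩ := hst _ (hsingle i)
      have e' := hconj _ _ e
      rw [← hcn, ← map_mul, mul_comm, map_mul, mul_inv_cancel_right] at e'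
      rw [← e'] at e
      exact mul_inv_eq_iff_eq_mul.1 e
  · rw [pow_one]
    exact char_wl E7.ok hl (hconj c c hxc) hr

theorem g_two : ¬ ((2 : ZMod 13) ^ 4 - 1 = 0 ∨ (2 : ZMod 13) ^ 6 - 1 = 0) := by decide
theorem seven_two : (7 : ZMod 13) * 2 = 1 := by decide
theorem two_pow : (2 : ZMod 13) ^ 12 = 1 ∧ ∀ m < 12, 0 < m → (2 : ZMod 13) ^ m ≠ 1 := by decide
theorem eight_pow : (8 : ZMod 13) ^ 4 = 1 ∧ ∀ m < 4, 0 < m → (8 : ZMod 13) ^ m ≠ 1 := by decide
theorem phi_vals : ((2 : ZMod 5) ^ 4 - 2 ^ 2 + 1 ≠ 0) ∧ (2 : ZMod 13) ^ 4 - 2 ^ 2 + 1 = 0 ∧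
    (6 : ZMod 13) ^ 4 - 6 ^ 2 + 1 = 0 ∧ (5 : ZMod 13) ^ 2 + 1 = 0 := by decide

theorem prim_two : IsPrimitiveRoot (2 : ZMod 13) 12 :=
  ((orderOf_eq_iff (by norm_num)).2 two_pow) ▸ IsPrimitiveRoot.orderOf (2 : ZMod 13)

theorem prim_eight : IsPrimitiveRoot (8 : ZMod 13) 4 :=
  ((orderOf_eq_iff (by norm_num)).2 eight_pow) ▸ IsPrimitiveRoot.orderOf (8 : ZMod 13)

/-- The matrices of the Weyl group with a fixed exponent vector. -/
def stab (f : Fin E7.pk.rank → ZMod 13) : Subgroup (Matrix (Fin E7.pk.rank) (Fin E7.pk.rank) ℤ)ˣ where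
  carrier := {u | (∃ l, WordOk E7.pk l ∧ WM E7.pk l = (u : Matrix _ _ ℤ)) ∧
    (u : Matrix _ _ ℤ).map (Int.castRingHom (ZMod 13)) *ᵥ f = f}
  one_mem' := ⟨⟨[], fun _ hx => absurd hx List.not_mem_nil, by rw [WM_nil E7.ok]; rfl⟩, by simp⟩
  mul_mem' := by
    rintro u v ⟨⟨a, ha, ea⟩, hu⟩ ⟨⟨b, hb, eb⟩, hv⟩
    exact ⟨⟨b ++ a, wordOk_append hb ha, by rw [WM_append E7.ok hb ha, ea, eb]; rfl⟩,
      by rw [Units.val_mul, Matrix.map_mul, ← Matrix.mulVec_mulVec, hv, hu]⟩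
  inv_mem' := by
    rintro u ⟨⟨a, ha, ea⟩, hu⟩
    refine ⟨⟨a.reverse, fun x hx => ha x (List.mem_reverse.1 hx), ?_⟩, ?_⟩
    · exact (Units.inv_eq_of_mul_eq_one_left (by rw [← ea]; exact WM_reverse_mul E7.ok ha)).symm
    · conv_lhs => rw [← hu]
      rw [Matrix.mulVec_mulVec, ← Matrix.map_mul, ← Units.val_mul, inv_mul_cancel]
      simp

theorem finite_WM : {A : Matrix (Fin E7.pk.rank) (Fin E7.pk.rank) ℤ | ∃ l, WordOk E7.pk l ∧ WM E7.pk l = A}.Finite := by
  refine Set.Finite.subset (Set.finite_range fun f : Fin E7.pk.nroots → Fin E7.pk.nroots =>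
    (Matrix.of fun k j => E7.pk.rv (f ⟨E7.pk.sim k, E7.ok.sim_lt k.isLt⟩) j :
      Matrix (Fin E7.pk.rank) (Fin E7.pk.rank) ℤ)) ?_
  rintro _ ⟨l, hl, rfl⟩
  refine ⟨act E7.pk l, ?_⟩
  ext k j
  show E7.pk.rv _ j = E7.pk.rv _ j
  rw [E7.ok.act_val hl]

/-- No Weyl element of order five fixes an eigenvector for the value two modulo thirteen. -/
theorem kill_five {f : Fin E7.pk.rank → ZMod 13} (hf : f ≠ 0) {l m : List ℕ} (hl : WordOk E7.pk l)
    (hm : WordOk E7.pk m) (hM : tr E7.pk l f = (2 : ZMod 13) • f) (h5 : WM E7.pk m ^ 5 = 1)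
    (h1 : WM E7.pk m ≠ 1) (hN : tr E7.pk m f = f) : False := by
  classical
  haveI : Fact (Nat.Prime 13) := ⟨by norm_num⟩
  haveI : Finite ↥(stab f) := by
    haveI := finite_WM.to_subtype
    exact Finite.of_injective (fun u : stab f => (⟨_, u.2.1⟩ :
      {A : Matrix (Fin E7.pk.rank) (Fin E7.pk.rank) ℤ | ∃ l, WordOk E7.pk l ∧ WM E7.pk l = A}))
      fun u v e => Subtype.ext (Units.ext (congrArg Subtype.val e))
  haveI : Fintype ↥(stab f) := Fintype.ofFinite _
  let uM : (Matrix (Fin E7.pk.rank) (Fin E7.pk.rank) ℤ)ˣ :=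
    ⟨WM E7.pk l, WM E7.pk l.reverse, mul_eq_one_comm.1 (WM_reverse_mul E7.ok hl), WM_reverse_mul E7.ok hl⟩
  let uN : (Matrix (Fin E7.pk.rank) (Fin E7.pk.rank) ℤ)ˣ :=
    ⟨WM E7.pk m, WM E7.pk m.reverse, mul_eq_one_comm.1 (WM_reverse_mul E7.ok hm), WM_reverse_mul E7.ok hm⟩
  have hNmem : uN ∈ stab f := ⟨⟨m, hm, rfl⟩, hN⟩
  have hlr : WordOk E7.pk l.reverse := fun x hx => hl x (List.mem_reverse.1 hx)
  have hinv : (WM E7.pk l.reverse).map (Int.castRingHom (ZMod 13)) *ᵥ f = (7 : ZMod 13) • f := by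
    have h2 : (WM E7.pk l.reverse).map (Int.castRingHom (ZMod 13)) *ᵥ (tr E7.pk l f) = f := by
      rw [tr, Matrix.mulVec_mulVec, ← Matrix.map_mul, WM_reverse_mul E7.ok hl]
      simp
    rw [hM, Matrix.mulVec_smul] at h2
    conv_rhs => rw [← h2, smul_smul, seven_two, one_smul]
  have hconj : ∀ u ∈ stab f, uM * u * uM⁻¹ ∈ stab f := by
    rintro u ⟨⟨a, ha, ea⟩, hu⟩
    refine ⟨⟨l.reverse ++ a ++ l, wordOk_append (wordOk_append hlr ha) hl, ?_⟩, ?_⟩
    · rw [WM_append E7.ok (wordOk_append hlr ha) hl, WM_append E7.ok hlr ha, ea, ← mul_assoc]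
      rfl
    · show ((WM E7.pk l * (u : Matrix _ _ ℤ) * WM E7.pk l.reverse).map _) *ᵥ f = f
      rw [Matrix.map_mul, Matrix.map_mul, ← Matrix.mulVec_mulVec, hinv, Matrix.mulVec_smul,
        ← Matrix.mulVec_mulVec, hu, show (WM E7.pk l).map (Int.castRingHom (ZMod 13)) *ᵥ f = (2 : ZMod 13) • f from hM,
        smul_smul, seven_two, one_smul]
  set E : Matrix (Fin E7.pk.rank) (Fin E7.pk.rank) ℤ := ∑ u : stab f, ((u : (Matrix (Fin E7.pk.rank) (Fin E7.pk.rank) ℤ)ˣ) : Matrix _ _ ℤ) with hE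
  have hNE : WM E7.pk m * E = E := by
    rw [hE, Finset.mul_sum]
    exact Fintype.sum_equiv (Equiv.mulLeft (⟨uN, hNmem⟩ : stab f)) _ _ fun u => rfl
  have hME : WM E7.pk l * E = E * WM E7.pk l := by
    let φ : stab f → stab f := fun u => ⟨uM * u * uM⁻¹, hconj u u.2⟩
    have hφ : Function.Bijective φ := Finite.injective_iff_bijective.1 fun u v e =>
      Subtype.ext (mul_left_cancel (mul_right_cancel (congrArg Subtype.val e)))
    rw [hE, Finset.mul_sum, Finset.sum_mul]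
    refine Fintype.sum_bijective φ hφ _ _ fun u => ?_
    show (uM : Matrix (Fin E7.pk.rank) (Fin E7.pk.rank) ℤ) * ((u : (Matrix (Fin E7.pk.rank) (Fin E7.pk.rank) ℤ)ˣ) : Matrix (Fin E7.pk.rank) (Fin E7.pk.rank) ℤ) = ((uM * u * uM⁻¹ : (Matrix (Fin E7.pk.rank) (Fin E7.pk.rank) ℤ)ˣ) : Matrix (Fin E7.pk.rank) (Fin E7.pk.rank) ℤ) * (uM : Matrix (Fin E7.pk.rank) (Fin E7.pk.rank) ℤ)
    rw [← Units.val_mul, ← Units.val_mul]
    congr 1
    group
  have hk := matrix_kill (le_of_eq (show E7.pk.rank = 7 by decide)) h5 h1 hNE hME (by norm_num) (WM_ord hl)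
  have hEf : E.map (Int.castRingHom (ZMod 13)) *ᵥ f = (Fintype.card (stab f) : ZMod 13) • f := by
    rw [hE, show (∑ u : stab f, ((u : (Matrix (Fin E7.pk.rank) (Fin E7.pk.rank) ℤ)ˣ) : Matrix (Fin E7.pk.rank) (Fin E7.pk.rank) ℤ)).map
        (Int.castRingHom (ZMod 13)) = ∑ u : stab f, ((u : (Matrix (Fin E7.pk.rank) (Fin E7.pk.rank) ℤ)ˣ) :
          Matrix (Fin E7.pk.rank) (Fin E7.pk.rank) ℤ).map (Int.castRingHom (ZMod 13)) from
        map_sum (Int.castRingHom (ZMod 13)).mapMatrix _ _, Matrix.sum_mulVec,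
      Finset.sum_congr rfl fun (u : stab f) _ => u.2.2, Finset.sum_const, Finset.card_univ, Nat.cast_smul_eq_nsmul]
  have h13 : ¬ 13 ∣ Fintype.card (stab f) := by
    intro hd
    obtain ⟨u, hu⟩ := exists_prime_orderOf_dvd_card 13 hd
    obtain ⟨a, ha, ea⟩ := u.2.1
    have h2 : u ^ 2903040 = 1 := Subtype.ext (Units.ext (by
      simp only [SubgroupClass.coe_pow, Units.val_pow_eq_pow_val, OneMemClass.coe_one, Units.val_one, ← ea]
      exact WM_ord ha))
    have := orderOf_dvd_of_pow_eq_one h2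
    rw [hu] at this
    norm_num at this
  have hMr : (WM E7.pk l).map (Int.castRingHom (ZMod 13)) *ᵥ f = (2 : ZMod 13) • f := hM
  have h2 := aeval_mulVec (WM E7.pk l) hMr ((Polynomial.X ^ 4 - 1) * (Polynomial.X ^ 6 - 1))
  have h3 := congrArg (fun A : Matrix _ _ ℤ => A.map (Int.castRingHom (ZMod 13)) *ᵥ f) hk
  simp only [map_mul, map_sub, map_pow, Polynomial.aeval_X, map_one, Polynomial.map_mul, Polynomial.map_sub,
    Polynomial.map_pow, Polynomial.map_X, Polynomial.map_one, Polynomial.eval_mul, Polynomial.eval_sub,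
    Polynomial.eval_pow, Polynomial.eval_X, Polynomial.eval_one] at h2
  simp only [Matrix.map_mul, ← Matrix.mulVec_mulVec, hEf, Matrix.mulVec_smul] at h3
  rw [Matrix.map_mul, ← Matrix.mulVec_mulVec] at h2
  rw [h2, smul_smul] at h3
  simp only [Matrix.map_zero _ (map_zero _), Matrix.zero_mulVec, smul_eq_zero, hf, or_false, mul_eq_zero] at h3
  rcases h3 with h3 | h3
  · exact h13 ((ZMod.natCast_eq_zero_iff _ _).1 h3)
  · exact g_two h3

theorem cyclo_five : ∀ d ∈ ([1, 2, 3, 4, 6] : List ℕ), d ≠ 4 →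
    ((Polynomial.cyclotomic d ℤ).map (Int.castRingHom (ZMod 5))).eval 2 ≠ 0 := by
  intro d hd hd4
  simp only [List.mem_cons, List.not_mem_nil, or_false] at hd
  rcases hd with rfl | rfl | rfl | rfl | rfl
  · simp only [Polynomial.cyclotomic_one, Polynomial.map_sub, Polynomial.map_X, Polynomial.map_one,
      Polynomial.eval_sub, Polynomial.eval_X, Polynomial.eval_one]; decide
  · simp only [Polynomial.cyclotomic_two, Polynomial.map_add, Polynomial.map_X, Polynomial.map_one,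
      Polynomial.eval_add, Polynomial.eval_X, Polynomial.eval_one]; decide
  · simp only [Polynomial.cyclotomic_three, Polynomial.map_add, Polynomial.map_pow, Polynomial.map_X,
      Polynomial.map_one, Polynomial.eval_add, Polynomial.eval_pow, Polynomial.eval_X, Polynomial.eval_one]; decide
  · exact absurd rfl hd4
  · simp only [Polynomial.cyclotomic_six, Polynomial.map_add, Polynomial.map_sub, Polynomial.map_pow,
      Polynomial.map_X, Polynomial.map_one, Polynomial.eval_add, Polynomial.eval_sub, Polynomial.eval_pow,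
      Polynomial.eval_X, Polynomial.eval_one]; decide

/-- No Weyl element has the value two as an eigenvalue both modulo thirteen and modulo five. -/
theorem kill_pair {f : Fin E7.pk.rank → ZMod 13} (hf : f ≠ 0) {g : Fin E7.pk.rank → ZMod 5} (hg : g ≠ 0)
    {l : List ℕ} (hl : WordOk E7.pk l) (hM : tr E7.pk l f = (2 : ZMod 13) • f)
    (hM5 : tr E7.pk l g = (2 : ZMod 5) • g) : False := by
  classical
  haveI : Fact (Nat.Prime 13) := ⟨by norm_num⟩
  haveI : Fact (Nat.Prime 5) := ⟨by norm_num⟩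
  set M := WM E7.pk l with hMdef
  obtain ⟨L, hLo, hch, hsum⟩ := HomSylow.exists_cyclo_list (by norm_num) (WM_ord hl)
  have hro : ¬ (13 : ℕ) ∣ 2903040 := by norm_num
  have h12 : 12 ∈ L := exists_cyclo_eigen (a := (2 : ZMod 13)) (e := 12) hro
    prim_two
    hf hM hLo hch
  have hperm := List.perm_cons_erase h12
  have hrank : E7.pk.rank = 7 := by decide
  have hrest : ((L.erase 12).map Nat.totient).sum = 3 := by
    have := (hperm.map Nat.totient).sum_eq
    rw [hsum, List.map_cons, List.sum_cons, show Nat.totient 12 = 4 by decide, hrank] at this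
    omega
  have hch' : M.charpoly = Polynomial.cyclotomic 12 ℤ * ((L.erase 12).map fun d => Polynomial.cyclotomic d ℤ).prod := by
    rw [hch, (hperm.map _).prod_eq, List.map_cons, List.prod_cons]
  have h4 : 4 ∈ L := by
    have h0 : (Matrix.scalar _ (2 : ZMod 5) - M.map (Int.castRingHom (ZMod 5))).det = 0 :=
      Matrix.exists_mulVec_eq_zero_iff.1 ⟨g, hg, by
        rw [Matrix.sub_mulVec, Matrix.scalar_apply, ← Matrix.smul_one_eq_diagonal, Matrix.smul_mulVec,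
          Matrix.one_mulVec, show M.map (Int.castRingHom (ZMod 5)) *ᵥ g = (2 : ZMod 5) • g from hM5, sub_self]⟩
    rw [← Matrix.eval_charpoly, Matrix.charpoly_map, hch', Polynomial.map_mul, Polynomial.eval_mul, mul_eq_zero,
      cyclotomic_twelve] at h0
    rcases h0 with h0 | h0
    · exfalso
      simp only [Polynomial.map_add, Polynomial.map_sub, Polynomial.map_pow, Polynomial.map_X, Polynomial.map_one,
        Polynomial.eval_add, Polynomial.eval_sub, Polynomial.eval_pow, Polynomial.eval_X, Polynomial.eval_one] at h0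
      exact phi_vals.1 h0
    · rw [Polynomial.map_list_prod, Polynomial.eval_list_prod, List.map_map, List.map_map, List.prod_eq_zero_iff] at h0
      obtain ⟨d, hd, hd0⟩ := List.mem_map.1 h0
      by_contra hne
      have hdL := List.mem_of_mem_erase hd
      have hdp : 0 < d := Nat.pos_of_dvd_of_pos (hLo d hdL) (by norm_num)
      have hφ : d.totient ≤ 3 := hrest ▸ List.single_le_sum (fun x _ => Nat.zero_le x) _ (List.mem_map.2 ⟨d, hd, rfl⟩)
      have hd5 : d ∈ ([1, 2, 3, 4, 6] : List ℕ) := by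
        have h2' : d.totient ≤ 2 := by
          rcases Nat.lt_or_ge d 3 with h | h
          · interval_cases d <;> decide
          · obtain ⟨k, hk⟩ := Nat.totient_even h
            omega
        have key : ∀ d ∈ (12 : ℕ).divisors, d.totient ≤ 3 → d ∈ ([1, 2, 3, 4, 6] : List ℕ) := by decide
        exact key d (Nat.mem_divisors.2 ⟨eq_dvd_twelve hdp h2', by norm_num⟩) hφ
      exact cyclo_five d hd5 (fun e => hne (e ▸ hdL)) (by simpa using hd0)
  set M13 := M.map (Int.castRingHom (ZMod 13)) with hM13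
  have hvec : ∀ a : ZMod 13, a = 2 ∨ a = 6 ∨ a = 5 → ∃ v : Fin E7.pk.rank → ZMod 13, v ≠ 0 ∧ M13 *ᵥ v = a • v := by
    intro a ha
    have h0 : (Matrix.scalar _ a - M13).det = 0 := by
      rw [hM13, ← Matrix.eval_charpoly, Matrix.charpoly_map, hch, Polynomial.map_list_prod,
        Polynomial.eval_list_prod, List.map_map, List.map_map, List.prod_eq_zero_iff]
      rcases ha with rfl | rfl | rfl
      · refine List.mem_map.2 ⟨12, h12, ?_⟩
        simp [cyclotomic_twelve, phi_vals.2.1]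
      · refine List.mem_map.2 ⟨12, h12, ?_⟩
        simp [cyclotomic_twelve, phi_vals.2.2.1]
      · refine List.mem_map.2 ⟨4, h4, ?_⟩
        simp [HomSylow.cyclo_four, phi_vals.2.2.2]
    obtain ⟨v, hv, e⟩ := Matrix.exists_mulVec_eq_zero_iff.2 h0
    refine ⟨v, hv, ?_⟩
    rw [Matrix.sub_mulVec, sub_eq_zero, Matrix.scalar_apply, ← Matrix.smul_one_eq_diagonal, Matrix.smul_mulVec,
      Matrix.one_mulVec] at e
    exact e.symm
  have hcard := card_eigen M13 hvec
  have hl3 := wordOk_pw (P := E7.pk) hl 3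
  have ha4 := prim_eight
  obtain ⟨k, hk1, hk2, hk3, hk4⟩ := HomSylow.eigen_bound (M := WM E7.pk (pw 3 l)) (by norm_num) (WM_ord hl3)
    hro (by norm_num : 0 < 4) (by norm_num) ha4
  have hk5 := HomSylow.good_E7 _ hl3 4 k (by norm_num) ⟨8, by simp, by norm_num⟩ hk2 hk3 hk4
  rw [show HomSylow.aInv [2, 6, 8, 10, 12, 14, 18] 4 = 2 by decide] at hk5
  rw [WM_pw E7.ok hl, ← hMdef, show (M ^ 3).map (Int.castRingHom (ZMod 13)) = M13 ^ 3 from
    map_pow (Int.castRingHom (ZMod 13)).mapMatrix M 3] at hk1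
  have := le_trans hcard (le_trans hk1 (Nat.pow_le_pow_right (by norm_num) hk5))
  norm_num at this

/-- No element of order 65 in the group over the field with two elements. -/
theorem no_65 (x : ↥(chevE7.group (ZMod 2))) : orderOf x ≠ 65 := by
  classical
  intro hx
  haveI : Fact (Nat.Prime 13) := ⟨by norm_num⟩
  haveI : Fact (Nat.Prime 5) := ⟨by norm_num⟩
  haveI : Fintype (FiniteField.Extension (ZMod 2) 2 12) := Fintype.ofFinite _
  let L := FiniteField.Extension (ZMod 2) 2 12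
  let ι : ZMod 2 →+* L := algebraMap (ZMod 2) L
  haveI : CharP L 2 := (ι.charP_iff ι.injective 2).1 inferInstance
  let σ : L →+* L := frobenius L 2
  have hσ : ∀ z, σ z = z ^ 2 := fun z => frobenius_def 2 z
  have hL : Fintype.card L = 4096 := by
    rw [← Nat.card_eq_fintype_card, FiniteField.natCard_extension (ZMod 2) 2 12, Nat.card_zmod]
    norm_num
  let em : ↥(chevE7.group (ZMod 2)) →* ↥(chevE7.group L) :=
    ((gmap chevE7 ι).comp (chevE7.group (ZMod 2)).subtype).codRestrict (chevE7.group L) fun g =>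
      E7.ok.map_group_le ι ⟨_, g.2, rfl⟩
  have hemi : Function.Injective em := fun _ _ e => Subtype.ext (gmap_injective ι (congrArg Subtype.val e))
  have hfixι : ∀ g : GL chevE7.Idx (ZMod 2), gmap chevE7 σ (gmap chevE7 ι g) = gmap chevE7 ι g := by
    intro g
    apply Units.ext
    rw [coe_gmap, coe_gmap, Matrix.map_map]
    congr 1
    funext z
    show σ (ι z) = ι z
    rw [hσ, ← map_pow, ZMod.pow_card]
  have hσh : ∀ c : Fin E7.pk.rank → Lˣ, gmap chevE7 σ (E7.ok.hHom c) = E7.ok.hHom (c ^ 2) := fun c => by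
    rw [E7.ok.gmap_hHom σ]
    exact congrArg _ (funext fun i => Units.ext (by simp [hσ]))
  obtain ⟨a, b, ha, hb, hab⟩ := split_pair' (r := 13) (s := 5) (by norm_num) (by norm_num) (z := x) (by rw [hx])
  obtain ⟨z1, hz1⟩ := conj_into (index_13 hL)
    ((IsPGroup.of_card (n := 1) (by rw [Nat.card_zpowers, ha, pow_one]) :
      IsPGroup 13 (Subgroup.zpowers a)).map em)
  have ht : z1 * em a * z1⁻¹ ∈ TL L := hz1 _ ⟨a, Subgroup.mem_zpowers a, rfl⟩
  obtain ⟨c, hc⟩ := mem_TL ht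
  obtain ⟨ζ13, hζ13⟩ := exists_prime_orderOf_dvd_card' (G := Lˣ) 13 (by
    rw [Nat.card_eq_fintype_card, Fintype.card_units, hL]; norm_num)
  obtain ⟨ζ5, hζ5⟩ := exists_prime_orderOf_dvd_card' (G := Lˣ) 5 (by
    rw [Nat.card_eq_fintype_card, Fintype.card_units, hL]; norm_num)
  obtain ⟨Z13, hZi13, hZ13⟩ := exists_zhom (hζ13 ▸ IsPrimitiveRoot.orderOf ζ13)
  obtain ⟨Z5, hZi5, hZ5⟩ := exists_zhom (hζ5 ▸ IsPrimitiveRoot.orderOf ζ5)
  have vec : ∀ {r : ℕ} [Fact r.Prime] (Z : Multiplicative (ZMod r) →* Lˣ),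
      (∀ u : Lˣ, u ^ r = 1 → ∃ f : ZMod r, u = Z (Multiplicative.ofAdd f)) →
      ∀ (e : ↥(chevE7.group (ZMod 2))), orderOf e = r → ∀ (y : ↥(chevE7.group L)) (d : Fin E7.pk.rank → Lˣ),
        ((y * em e * y⁻¹ : ↥(chevE7.group L)) : GL chevE7.Idx L) = E7.ok.hHom d →
        ∃ f : Fin E7.pk.rank → ZMod r, f ≠ 0 ∧
          ∀ s < E7.pk.nroots, hchar E7.pk d s = (Z (Multiplicative.ofAdd (dot E7.pk f s)) : L) := by
    intro r _ Z hZ e he y d hd
    have hpow : E7.ok.hHom d ^ r = 1 := by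
      have h1 : (y * em e * y⁻¹) ^ r = 1 := by rw [conj_pow, ← map_pow, ← he, pow_orderOf_eq_one]; simp
      rw [← hd, ← SubgroupClass.coe_pow, h1, OneMemClass.coe_one]
    obtain ⟨f, hf⟩ := exists_exponent E7.ok Z hZ d fun s hs => by
      have := HomSylow.hchar_of_hHom_one E7.ok (c := d ^ r) (by rw [map_pow, hpow]) hs
      rw [← this]
      simp only [hchar, ← Finset.prod_pow, Pi.pow_apply, Units.val_pow_eq_pow_val]
      exact Finset.prod_congr rfl fun i _ => by rw [← zpow_natCast, ← zpow_natCast, zpow_comm]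
    refine ⟨f, fun f0 => ?_, hf⟩
    have h1 : E7.ok.hHom d = 1 := by
      rw [← map_one (E7.ok.hHom (F := L))]
      refine hHom_ext_char E7.ok fun s hs => ?_
      rw [hf s hs, f0]
      simp [dot, hchar]
    have h2 : y * em e * y⁻¹ = 1 := Subtype.ext (by rw [hd, h1]; rfl)
    rw [conj_eq_one_iff] at h2
    rw [hemi (h2.trans (map_one em).symm), orderOf_one] at he
    exact (Fact.out : r.Prime).one_lt.ne he
  have rel : ∀ (y : ↥(chevE7.group L)), ∃ l, WordOk E7.pk l ∧ ∀ (e : ↥(chevE7.group (ZMod 2)))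
      (d : Fin E7.pk.rank → Lˣ), ((y * em e * y⁻¹ : ↥(chevE7.group L)) : GL chevE7.Idx L) = E7.ok.hHom d →
      Rel E7.pk l 2 d := by
    intro y
    obtain ⟨l, hl, hrel, -⟩ := exists_weyl E7.ok ckComm_E7 σ hσh (y := ((y⁻¹ : ↥(chevE7.group L)) : GL chevE7.Idx L))
      (y⁻¹).2
    refine ⟨l, hl, fun e d hd => hrel d ?_⟩
    have h1 : ((y⁻¹ : ↥(chevE7.group L)) : GL chevE7.Idx L) * E7.ok.hHom d *
        (((y⁻¹ : ↥(chevE7.group L)) : GL chevE7.Idx L))⁻¹ = gmap chevE7 ι (e : GL chevE7.Idx (ZMod 2)) := by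
      rw [← hd]
      simp only [Subgroup.coe_mul, Subgroup.coe_inv]
      show _ = ((em e : ↥(chevE7.group L)) : GL chevE7.Idx L)
      group
    rw [h1]
    exact hfixι _
  set t := z1 * em a * z1⁻¹ with ht'
  set C := Subgroup.centralizer ({t} : Set ↥(chevE7.group L)) with hC
  have hidx : ¬ 5 ∣ ((TL L).subgroupOf C).index := by
    intro h5
    obtain ⟨m, hm, hm5, hm1, hmr⟩ := exists_five (hζ5 ▸ IsPrimitiveRoot.orderOf ζ5) hc.symm h5
    obtain ⟨f, hf, hfc⟩ := vec Z13 hZ13 a ha z1 c hc.symm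
    obtain ⟨l, hl, hlr⟩ := rel z1
    have e1 := (rel_iff_tr E7.ok hZi13 hl hfc).1 (hlr a c hc.symm)
    have e2 := (rel_iff_tr E7.ok hZi13 hm hfc).1 hmr
    rw [Nat.cast_one, one_smul] at e2
    exact kill_five hf hl hm (by simpa using e1) hm5 hm1 e2
  have hw : z1 * em b * z1⁻¹ ∈ C := Subgroup.mem_centralizer_iff.2 fun z hz => by
    rw [Set.mem_singleton_iff.1 hz, ht']
    exact ((hab.map em).map (MulAut.conj z1).toMonoidHom).eq
  set w : C := ⟨_, hw⟩
  have hwo : orderOf w = 5 := by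
    rw [← Subgroup.orderOf_coe]
    show orderOf (MulAut.conj z1 (em b)) = 5
    rw [MulEquiv.orderOf_eq, orderOf_injective em hemi, hb]
  obtain ⟨z2, hz2⟩ := conj_into hidx (IsPGroup.of_card (n := 1) (by rw [Nat.card_zpowers, hwo, pow_one]) :
    IsPGroup 5 (Subgroup.zpowers w))
  have h2 := Subgroup.mem_subgroupOf.1 (hz2 w (Subgroup.mem_zpowers w))
  set z : ↥(chevE7.group L) := (z2 : ↥(chevE7.group L)) * z1 with hz
  have ha' : z * em a * z⁻¹ = t := by
    have hcc : t * (z2 : ↥(chevE7.group L)) = z2 * t := Subgroup.mem_centralizer_iff.1 z2.2 t (Set.mem_singleton _)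
    rw [show z * em a * z⁻¹ = (z2 : ↥(chevE7.group L)) * t * (z2 : ↥(chevE7.group L))⁻¹ by
      simp only [hz, ht']; group, ← hcc, mul_inv_cancel_right]
  have hb' : z * em b * z⁻¹ ∈ TL L := by
    rw [show z * em b * z⁻¹ = (z2 : ↥(chevE7.group L)) * (z1 * em b * z1⁻¹) * (z2 : ↥(chevE7.group L))⁻¹ by
      simp only [hz]; group]
    exact h2
  obtain ⟨c', hc'⟩ := mem_TL hb'
  obtain ⟨f, hf, hfc⟩ := vec Z13 hZ13 a ha z c (by rw [ha', hc])
  obtain ⟨g, hg, hgc⟩ := vec Z5 hZ5 b hb z c' hc'.symm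
  obtain ⟨l, hl, hlr⟩ := rel z
  have e1 := (rel_iff_tr E7.ok hZi13 hl hfc).1 (hlr a c (by rw [ha', hc]))
  have e2 := (rel_iff_tr E7.ok hZi5 hl hgc).1 (hlr b c' hc'.symm)
  exact kill_pair hf hg hl (by simpa using e1) (by simpa using e2)
where
  split_pair' {G : Type} [Group G] {r s : ℕ} (hr : 0 < r) (hs : 0 < s) {z : G} (hz : orderOf z = r * s) :
      ∃ a b : G, orderOf a = r ∧ orderOf b = s ∧ Commute a b := by
    refine ⟨z ^ s, z ^ r, ?_, ?_, Commute.pow_pow_self z s r⟩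
    · rw [orderOf_pow_of_dvd hs.ne' (hz ▸ dvd_mul_left s r), hz, Nat.mul_div_cancel _ hs]
    · rw [orderOf_pow_of_dvd hr.ne' (hz ▸ dvd_mul_right r s), hz, Nat.mul_div_cancel_left _ hr]

end Cfsg.Agent.Chev.E7Sixty
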